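import Groth.Prelude.Def_FilD
import Mathlib.CategoryTheory.Abelian.Refinements
import Mathlib.CategoryTheory.Subobject.Lattice
import Mathlib.Algebra.Homology.ShortComplex.ExactFunctor
import Mathlib.Tactic

/-!
Finite filtered objects of an abelian category: transition maps, strictness by refinements,
exactness through graded pieces.
-/

set_option autoImplicit false
set_option linter.unusedSectionVars false
universe v u

open CategoryTheory CategoryTheory.Limits Opposite FilD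

namespace Groth.Agent.FilObj

variable {A : Type u} [Category.{v} A] [Abelian A]

/-- Transition maps. -/
noncomputable abbrev tr (F : ℤᵒᵖ ⥤ A) {p q : ℤ} (h : p ≤ q) : F.obj (op q) ⟶ F.obj (op p) :=
  F.map (homOfLE h).op

lemma tr_refl (F : ℤᵒᵖ ⥤ A) (p : ℤ) : tr F (le_refl p) = 𝟙 _ := F.map_id _

lemma tr_comp (F : ℤᵒᵖ ⥤ A) {p q r : ℤ} (h : p ≤ q) (h' : q ≤ r) :
    tr F h' ≫ tr F h = tr F (h.trans h') := by
  rw [← F.map_comp]
  rfl

lemma tr_nat {F G : ℤᵒᵖ ⥤ A} (φ : F ⟶ G) {p q : ℤ} (h : p ≤ q) :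
    tr F h ≫ φ.app (op p) = φ.app (op q) ≫ tr G h := φ.naturality _

lemma map_eq_tr (F : ℤᵒᵖ ⥤ A) {x y : ℤᵒᵖ} (f : x ⟶ y) : F.map f = tr F (leOfHom f.unop) := rfl

noncomputable abbrev step (F : ℤᵒᵖ ⥤ A) (p : ℤ) : F.obj (op (p + 1)) ⟶ F.obj (op p) := tr F (Int.le_add_one le_rfl)

/-- Projection to the graded piece. -/
noncomputable abbrev grπ (F : ℤᵒᵖ ⥤ A) (p : ℤ) : F.obj (op p) ⟶ (gr A p).obj F :=
  cokernel.π (F.map (stepHom p))

instance epi_grπ (F : ℤᵒᵖ ⥤ A) (p : ℤ) : Epi (grπ F p) :=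
  (inferInstance : Epi (cokernel.π (F.map (stepHom p))))

lemma step_grπ (F : ℤᵒᵖ ⥤ A) (p : ℤ) : step F p ≫ grπ F p = 0 := cokernel.condition _

lemma grπ_map {F G : ℤᵒᵖ ⥤ A} (φ : F ⟶ G) (p : ℤ) :
    grπ F p ≫ (gr A p).map φ = φ.app (op p) ≫ grπ G p :=
  cokernel.π_desc _ _ _

lemma grπ_lift (F : ℤᵒᵖ ⥤ A) (p : ℤ) {T : A} (x : T ⟶ F.obj (op p)) (hx : x ≫ grπ F p = 0) :
    ∃ (T' : A) (π : T' ⟶ T) (_ : Epi π) (y : T' ⟶ F.obj (op (p + 1))), π ≫ x = y ≫ step F p :=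
  (ShortComplex.exact_of_g_is_cokernel
    (ShortComplex.mk (step F p) (grπ F p) (step_grπ F p)) (cokernelIsCokernel _)).exact_up_to_refinements x hx

instance mono_tr (X : FilF A) {p q : ℤ} (h : p ≤ q) : Mono (tr X.obj h) := X.property.1 _

instance mono_step' (X : FilF A) (p : ℤ) : Mono (X.obj.map (stepHom p)) := X.property.1 _

lemma exists_zero_bound (X : FilF A) : ∃ b : ℤ, ∀ p, b ≤ p → IsZero (X.obj.obj (op p)) :=
  X.property.2.1

lemma exists_const_bound (X : FilF A) :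
    ∃ a : ℤ, ∀ {p q : ℤ} (h : p ≤ q), q ≤ a → IsIso (tr X.obj h) := by
  obtain ⟨a, ha⟩ := X.property.2.2
  exact ⟨a, fun {p q} h hq => ha _ hq⟩

/-- Downward induction. -/
lemma down_induction (P : ℤ → Prop) (b : ℤ) (hb : ∀ p, b ≤ p → P p)
    (hstep : ∀ p, P (p + 1) → P p) (p : ℤ) : P p := by
  obtain h | h := le_total b p
  · exact hb p h
  · induction p, h using Int.leInductionDown with
    | base => exact hb b le_rfl
    | pred n _ ih => exact hstep (n - 1) (by rwa [sub_add_cancel])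

/-- A factorisation after an epi gives an inequality of subobjects. -/
lemma le_of_refinement {X : A} (P Q : Subobject X) {T : A} (π : T ⟶ (P : A)) [Epi π] (z : T ⟶ (Q : A))
    (h : π ≫ P.arrow = z ≫ Q.arrow) : P ≤ Q := by
  have h0 : P.arrow ≫ cokernel.π Q.arrow = 0 := by
    rw [← cancel_epi π, ← Category.assoc, h, Category.assoc, cokernel.condition, comp_zero, comp_zero]
  exact Subobject.le_of_comm (Abelian.monoLift Q.arrow P.arrow h0) (Abelian.monoLift_comp _ _ _)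

/-- Strictness, elementwise. -/
def StrictR {X Y : ℤᵒᵖ ⥤ A} (φ : X ⟶ Y) : Prop :=
  ∀ ⦃p q : ℤ⦄ (h : p ≤ q) ⦃T : A⦄ (x : T ⟶ X.obj (op p)) (y : T ⟶ Y.obj (op q)),
    x ≫ φ.app (op p) = y ≫ tr Y h →
      ∃ (T' : A) (π : T' ⟶ T) (_ : Epi π) (x' : T' ⟶ X.obj (op q)), π ≫ y = x' ≫ φ.app (op q)

lemma isStrict_iff {X Y : FilF A} (φ : X ⟶ Y) : IsStrict φ ↔ StrictR φ.hom := by
  constructor
  · intro hφ p q h T x y hxy
    have hz : (imageSubobject (φ.hom.app (op p)) ⊓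
        @Subobject.mk _ _ _ _ (tr Y.obj h) (Y.property.1 _)).Factors (y ≫ tr Y.obj h) := by
      rw [Subobject.inf_factors]
      refine ⟨?_, (Subobject.mk_factors_iff _ _).mpr ⟨y, rfl⟩⟩
      rw [← hxy]
      exact imageSubobject_factors_comp_self _ _
    rw [← hφ p q h] at hz
    obtain ⟨w, hw⟩ : ∃ w, w ≫ (imageSubobject (φ.hom.app (op q) ≫ tr Y.obj h)).arrow = y ≫ tr Y.obj h :=
      ⟨_, Subobject.factorThru_arrow _ _ hz⟩
    obtain ⟨T', π, hπ, x', hx'⟩ := surjective_up_to_refinements_of_epi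
      (factorThruImageSubobject (φ.hom.app (op q) ≫ tr Y.obj h)) w
    refine ⟨T', π, hπ, x', ?_⟩
    rw [← cancel_mono (tr Y.obj h), Category.assoc, ← hw, ← Category.assoc, hx', Category.assoc,
      imageSubobject_arrow_comp, Category.assoc]
  · intro hφ p q h
    haveI : Mono (Y.obj.map (homOfLE h).op) := Y.property.1 _
    apply le_antisymm
    · apply le_inf
      · refine imageSubobject_le _ (tr X.obj h ≫ factorThruImageSubobject _) ?_
        rw [Category.assoc, imageSubobject_arrow_comp, tr_nat]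
      · refine imageSubobject_le _ (φ.hom.app (op q) ≫ (Subobject.underlyingIso _).inv) ?_
        rw [Category.assoc, Subobject.underlyingIso_arrow]
    · obtain ⟨w, hw⟩ : ∃ w, w ≫ (imageSubobject (φ.hom.app (op p))).arrow =
          (imageSubobject (φ.hom.app (op p)) ⊓ Subobject.mk (Y.obj.map (homOfLE h).op)).arrow :=
        ⟨_, Subobject.ofLE_arrow inf_le_left⟩
      obtain ⟨y, hy⟩ : ∃ y, y ≫ tr Y.obj h =
          (imageSubobject (φ.hom.app (op p)) ⊓ Subobject.mk (Y.obj.map (homOfLE h).op)).arrow :=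
        ⟨Subobject.ofLEMk _ _ inf_le_right, Subobject.ofLEMk_comp _⟩
      obtain ⟨T, π, hπ, x, hx⟩ := surjective_up_to_refinements_of_epi
        (factorThruImageSubobject (φ.hom.app (op p))) w
      obtain ⟨T', π', hπ', x', hx'⟩ := hφ h x (π ≫ y) (by
        rw [Category.assoc, hy, ← hw, ← Category.assoc π, hx, Category.assoc, imageSubobject_arrow_comp])
      refine le_of_refinement _ _ (π' ≫ π) (x' ≫ factorThruImageSubobject _) ?_
      rw [Category.assoc, ← hy, Category.assoc, imageSubobject_arrow_comp]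
      simpa only [Category.assoc] using hx' =≫ tr Y.obj h

/-- Strictness need only be tested on single steps. -/
lemma strictR_of_step {X Y : ℤᵒᵖ ⥤ A} [∀ {p q : ℤ} (h : p ≤ q), Mono (tr Y h)] (φ : X ⟶ Y)
    (hφ : ∀ (p : ℤ) ⦃T : A⦄ (x : T ⟶ X.obj (op p)) (y : T ⟶ Y.obj (op (p + 1))),
      x ≫ φ.app (op p) = y ≫ step Y p →
        ∃ (T' : A) (π : T' ⟶ T) (_ : Epi π) (x' : T' ⟶ X.obj (op (p + 1))),
          π ≫ y = x' ≫ φ.app (op (p + 1))) :
    StrictR φ := by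
  intro p q h
  induction q, h using Int.leInduction with
  | base =>
    intro T x y hxy
    rw [tr_refl] at hxy
    exact ⟨T, 𝟙 _, inferInstance, x, by simpa using hxy.symm⟩
  | succ q h ih =>
    intro T x y hxy
    obtain ⟨T₁, π₁, hπ₁, x₁, hx₁⟩ := ih x (y ≫ step Y q) (by rw [hxy, Category.assoc, tr_comp])
    obtain ⟨T₂, π₂, hπ₂, x₂, hx₂⟩ := hφ q x₁ (π₁ ≫ y) (by rw [← hx₁, Category.assoc])
    exact ⟨T₂, π₂ ≫ π₁, epi_comp _ _, x₂, by rw [Category.assoc, hx₂]⟩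

variable (A) in
/-- Evaluation at a filtration step. -/
noncomputable abbrev ev (p : ℤ) : FilF A ⥤ A := (IsFinFil A).ι ⋙ (evaluation ℤᵒᵖ A).obj (op p)

/-- Splitting an element through an exact graded piece. -/
lemma gr_split (S : ShortComplex (FilF A)) (p : ℤ) (hS : (S.map (grF A p)).Exact) {T : A}
    (y : T ⟶ S.X₂.obj.obj (op p)) (hy : y ≫ S.g.hom.app (op p) ≫ grπ S.X₃.obj p = 0) :
    ∃ (T' : A) (π : T' ⟶ T) (_ : Epi π) (x : T' ⟶ S.X₁.obj.obj (op p))
      (z : T' ⟶ S.X₂.obj.obj (op (p + 1))),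
      π ≫ y = x ≫ S.f.hom.app (op p) + z ≫ step S.X₂.obj p := by
  have hy' : (y ≫ grπ S.X₂.obj p) ≫ (gr A p).map S.g.hom = 0 := by
    rw [Category.assoc, grπ_map, hy]
  obtain ⟨T₁, π₁, hπ₁, (x₁ : T₁ ⟶ (gr A p).obj S.X₁.obj), hx₁⟩ :=
    hS.exact_up_to_refinements (y ≫ grπ S.X₂.obj p) hy'
  replace hx₁ : π₁ ≫ y ≫ grπ S.X₂.obj p = x₁ ≫ (gr A p).map S.f.hom := hx₁
  obtain ⟨T₂, π₂, hπ₂, x, hx⟩ := surjective_up_to_refinements_of_epi (grπ S.X₁.obj p) x₁
  obtain ⟨T₃, π₃, hπ₃, z, hz⟩ := grπ_lift S.X₂.obj p (π₂ ≫ π₁ ≫ y - x ≫ S.f.hom.app (op p)) (by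
    rw [Preadditive.sub_comp, Category.assoc, Category.assoc, hx₁, ← Category.assoc π₂, hx,
      Category.assoc, Category.assoc, grπ_map, sub_self])
  refine ⟨T₃, π₃ ≫ π₂ ≫ π₁, inferInstance, π₃ ≫ x, z, ?_⟩
  rw [← hz]
  simp only [Category.assoc, Preadditive.comp_sub]
  abel

/-- Exactness of all steps from exactness of all graded pieces. -/
lemma exact_ev (S : ShortComplex (FilF A)) (hS : ∀ p : ℤ, (S.map (grF A p)).Exact) (p : ℤ) :
    (S.map (ev A p)).Exact := by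
  obtain ⟨b, hb⟩ := exists_zero_bound S.X₂
  refine down_induction (fun p => (S.map (ev A p)).Exact) b
    (fun q hq => ShortComplex.exact_of_isZero_X₂ _ (hb q hq)) (fun q hq => ?_) p
  rw [ShortComplex.exact_iff_exact_up_to_refinements]
  intro T (y : T ⟶ S.X₂.obj.obj (op q)) hy
  change y ≫ S.g.hom.app (op q) = 0 at hy
  obtain ⟨T₃, π₃, hπ₃, x, z, hxz⟩ := gr_split S q (hS q) y (by rw [reassoc_of% hy, zero_comp])
  have hf0 : S.f.hom.app (op q) ≫ S.g.hom.app (op q) = 0 :=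
    congrArg (fun f : S.X₁ ⟶ S.X₃ => f.hom.app (op q)) S.zero
  have hzg : z ≫ S.g.hom.app (op (q + 1)) = 0 := by
    rw [← cancel_mono (tr S.X₃.obj (Int.le_add_one (le_refl q))), zero_comp, Category.assoc, ← tr_nat,
      ← Category.assoc, (eq_sub_of_add_eq' hxz.symm)]
    simp only [Category.assoc, Preadditive.sub_comp, hy, hf0, comp_zero, sub_self]
  obtain ⟨T₄, π₄, hπ₄, (w : T₄ ⟶ S.X₁.obj.obj (op (q + 1))), hw⟩ := hq.exact_up_to_refinements z hzg
  replace hw : π₄ ≫ z = w ≫ S.f.hom.app (op (q + 1)) := hw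
  refine ⟨T₄, π₄ ≫ π₃, inferInstance, π₄ ≫ x + w ≫ step S.X₁.obj q, ?_⟩
  change (π₄ ≫ π₃) ≫ y = _ ≫ S.f.hom.app (op q)
  rw [Preadditive.add_comp, Category.assoc w, tr_nat, ← Category.assoc w, ← hw, Category.assoc,
    Category.assoc, hxz, Preadditive.comp_add, Category.assoc]

lemma strict_f (S : ShortComplex (FilF A)) (hS : ∀ p : ℤ, (S.map (grF A p)).Exact) : StrictR S.f.hom := by
  intro p q h T x y hxy
  have hf0 : S.f.hom.app (op p) ≫ S.g.hom.app (op p) = 0 :=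
    congrArg (fun f : S.X₁ ⟶ S.X₃ => f.hom.app (op p)) S.zero
  obtain ⟨T', π, hπ, x', hx'⟩ := (exact_ev S hS q).exact_up_to_refinements y (show y ≫ S.g.hom.app (op q) = 0 by
    rw [← cancel_mono (tr S.X₃.obj h), zero_comp, Category.assoc, ← tr_nat, ← Category.assoc, ← hxy,
      Category.assoc, hf0, comp_zero])
  exact ⟨T', π, hπ, x', hx'⟩

lemma strict_g (S : ShortComplex (FilF A)) (hS : ∀ p : ℤ, (S.map (grF A p)).Exact) : StrictR S.g.hom := by
  haveI : ∀ {p q : ℤ} (h : p ≤ q), Mono (tr S.X₃.obj h) := fun h => inferInstance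
  refine strictR_of_step _ fun p T y z hyz => ?_
  obtain ⟨T₃, π₃, hπ₃, x, w, hxw⟩ := gr_split S p (hS p) y
    (by rw [reassoc_of% hyz, step_grπ, comp_zero])
  have hf0 : S.f.hom.app (op p) ≫ S.g.hom.app (op p) = 0 :=
    congrArg (fun f : S.X₁ ⟶ S.X₃ => f.hom.app (op p)) S.zero
  refine ⟨T₃, π₃, hπ₃, w, ?_⟩
  rw [← cancel_mono (tr S.X₃.obj (Int.le_add_one (le_refl p))), Category.assoc w, ← tr_nat,
    ← Category.assoc w, eq_sub_of_add_eq' hxw.symm]
  simp only [Category.assoc, Preadditive.sub_comp, hf0, comp_zero, sub_zero, hyz]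

end Groth.Agent.FilObj
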