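import Groth.Agent.FilObj.Embed

/-!
Kernels and cokernels of strict morphisms of finite filtered objects and their graded pieces.
-/

set_option autoImplicit false
set_option linter.unusedSectionVars false
universe v u

open CategoryTheory CategoryTheory.Limits Opposite FilD

namespace Groth.Agent.FilObj

variable {A : Type u} [Category.{v} A] [Abelian A]

lemma exact_cokernel_ev {F G : ℤᵒᵖ ⥤ A} (g : F ⟶ G) (x : ℤᵒᵖ) :
    ((ShortComplex.mk g (cokernel.π g) (cokernel.condition g)).map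
      ((evaluation ℤᵒᵖ A).obj x)).Exact :=
  (ShortComplex.exact_of_g_is_cokernel
    (ShortComplex.mk g (cokernel.π g) (cokernel.condition g)) (cokernelIsCokernel g)).map _

lemma epi_cokernel_app {F G : ℤᵒᵖ ⥤ A} (g : F ⟶ G) (x : ℤᵒᵖ) : Epi ((cokernel.π g).app x) :=
  (inferInstance : Epi (((evaluation ℤᵒᵖ A).obj x).map (cokernel.π g)))

lemma isFinFil_coker {X Y : FilF A} (ψ : X ⟶ Y) (hψ : StrictR ψ.hom) :
    IsFinFil A (cokernel ψ.hom) := by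
  have hmono : ∀ {x y : ℤᵒᵖ} (f : x ⟶ y), Mono ((cokernel ψ.hom).map f) := by
    intro x y f
    refine Preadditive.mono_of_cancel_zero _ fun {T} z hz => ?_
    haveI := epi_cokernel_app ψ.hom x
    obtain ⟨T₁, π₁, hπ₁, w, hw⟩ := surjective_up_to_refinements_of_epi ((cokernel.π ψ.hom).app x) z
    obtain ⟨T₂, π₂, hπ₂, (v : T₂ ⟶ X.obj.obj y), hv⟩ := (exact_cokernel_ev ψ.hom y).exact_up_to_refinements
      (w ≫ Y.obj.map f) (show (w ≫ Y.obj.map f) ≫ (cokernel.π ψ.hom).app y = 0 by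
        rw [Category.assoc, NatTrans.naturality, ← Category.assoc, ← hw, Category.assoc, hz, comp_zero])
    replace hv : π₂ ≫ w ≫ Y.obj.map f = v ≫ ψ.hom.app y := hv
    obtain ⟨T₃, π₃, hπ₃, x', hx'⟩ := hψ (p := y.unop) (q := x.unop) (leOfHom f.unop) v (π₂ ≫ w)
      (show v ≫ ψ.hom.app y = (π₂ ≫ w) ≫ Y.obj.map f by rw [← hv, Category.assoc])
    haveI : Epi (π₃ ≫ π₂ ≫ π₁) := inferInstance
    rw [← cancel_epi (π₃ ≫ π₂ ≫ π₁), comp_zero, Category.assoc, Category.assoc, hw,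
      ← Category.assoc π₂, ← Category.assoc π₃]
    change (π₃ ≫ π₂ ≫ w) ≫ (cokernel.π ψ.hom).app (op x.unop) = 0
    rw [hx', Category.assoc, ← NatTrans.comp_app, cokernel.condition]
    simp
  obtain ⟨b, hb⟩ := exists_zero_bound Y
  obtain ⟨a, ha⟩ := Y.property.2.2
  refine ⟨@hmono, ⟨b, fun p hp => ?_⟩, ⟨a, fun x y f hx => ?_⟩⟩
  · haveI := epi_cokernel_app ψ.hom (op p)
    exact IsZero.of_epi ((cokernel.π ψ.hom).app (op p)) (hb p hp)
  · haveI := hmono f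
    haveI : Epi ((cokernel ψ.hom).map f) := by
      haveI : IsIso (Y.obj.map f) := ha f hx
      haveI := epi_cokernel_app ψ.hom y
      exact epi_of_epi_fac ((cokernel.π ψ.hom).naturality f).symm
    exact isIso_of_mono_of_epi _

/-- The cokernel of a strict morphism. -/
noncomputable def cokObj {X Y : FilF A} (ψ : X ⟶ Y) (hψ : StrictR ψ.hom) : FilF A :=
  ⟨cokernel ψ.hom, isFinFil_coker ψ hψ⟩

noncomputable def cokπ {X Y : FilF A} (ψ : X ⟶ Y) (hψ : StrictR ψ.hom) : Y ⟶ cokObj ψ hψ :=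
  ObjectProperty.homMk (cokernel.π ψ.hom)

lemma cok_condition {X Y : FilF A} (ψ : X ⟶ Y) (hψ : StrictR ψ.hom) : ψ ≫ cokπ ψ hψ = 0 :=
  ObjectProperty.hom_ext _ (cokernel.condition ψ.hom)

instance epi_cokπ {X Y : FilF A} (ψ : X ⟶ Y) (hψ : StrictR ψ.hom) : Epi (cokπ ψ hψ) :=
  (IsFinFil A).ι.epi_of_epi_map (show Epi (cokernel.π ψ.hom) from inferInstance)

noncomputable def cokDesc {X Y Z : FilF A} (ψ : X ⟶ Y) (hψ : StrictR ψ.hom) (f : Y ⟶ Z)
    (hf : ψ ≫ f = 0) : cokObj ψ hψ ⟶ Z :=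
  ObjectProperty.homMk (cokernel.desc ψ.hom f.hom (congrArg InducedCategory.Hom.hom hf))

@[reassoc (attr := simp)]
lemma cokπ_desc {X Y Z : FilF A} (ψ : X ⟶ Y) (hψ : StrictR ψ.hom) (f : Y ⟶ Z)
    (hf : ψ ≫ f = 0) : cokπ ψ hψ ≫ cokDesc ψ hψ f hf = f :=
  ObjectProperty.hom_ext _ (cokernel.π_desc _ _ _)

noncomputable def kerLift {X Y Z : FilF A} (φ : Y ⟶ Z) (f : X ⟶ Y) (hf : f ≫ φ = 0) :
    X ⟶ kerObj φ :=
  ObjectProperty.homMk (kernel.lift φ.hom f.hom (congrArg InducedCategory.Hom.hom hf))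

@[reassoc (attr := simp)]
lemma kerLift_ι {X Y Z : FilF A} (φ : Y ⟶ Z) (f : X ⟶ Y) (hf : f ≫ φ = 0) :
    kerLift φ f hf ≫ kerι φ = f :=
  ObjectProperty.hom_ext _ (kernel.lift_ι _ _ _)

lemma ker_condition {Y Z : FilF A} (φ : Y ⟶ Z) : kerι φ ≫ φ = 0 :=
  ObjectProperty.hom_ext _ (kernel.condition φ.hom)

instance mono_kerι {Y Z : FilF A} (φ : Y ⟶ Z) : Mono (kerι φ) :=
  (IsFinFil A).ι.mono_of_mono_map (show Mono (kernel.ι φ.hom) from inferInstance)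

lemma mono_kernel_app {F G : ℤᵒᵖ ⥤ A} (g : F ⟶ G) (x : ℤᵒᵖ) : Mono ((kernel.ι g).app x) :=
  (inferInstance : Mono (((evaluation ℤᵒᵖ A).obj x).map (kernel.ι g)))

lemma gr_epi_map {F G : ℤᵒᵖ ⥤ A} (g : F ⟶ G) (p : ℤ) [Epi (g.app (op p))] : Epi ((gr A p).map g) := by
  haveI : Epi (g.app (op p) ≫ grπ G p) := inferInstance
  exact epi_of_epi_fac (grπ_map g p)

/-- Graded pieces of a cokernel sequence. -/
lemma gr_exact_cok {X Y : FilF A} (ψ : X ⟶ Y) (hψ : StrictR ψ.hom) (p : ℤ) :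
    ((ShortComplex.mk ψ (cokπ ψ hψ) (cok_condition ψ hψ)).map (grF A p)).Exact := by
  rw [ShortComplex.exact_iff_exact_up_to_refinements]
  intro T (y : T ⟶ (gr A p).obj Y.obj) hy
  replace hy : y ≫ (gr A p).map (cokernel.π ψ.hom) = 0 := hy
  obtain ⟨T₁, π₁, hπ₁, y₀, hy₀⟩ := surjective_up_to_refinements_of_epi (grπ Y.obj p) y
  obtain ⟨T₂, π₂, hπ₂, z, hz⟩ := grπ_lift (cokernel ψ.hom) p (y₀ ≫ (cokernel.π ψ.hom).app (op p)) (by
    rw [Category.assoc, ← grπ_map, ← Category.assoc, ← hy₀, Category.assoc, hy, comp_zero])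
  haveI := epi_cokernel_app ψ.hom (op (p + 1))
  obtain ⟨T₃, π₃, hπ₃, z₀, hz₀⟩ := surjective_up_to_refinements_of_epi
    ((cokernel.π ψ.hom).app (op (p + 1))) z
  obtain ⟨T₄, π₄, hπ₄, (x : T₄ ⟶ X.obj.obj (op p)), hx⟩ := (exact_cokernel_ev ψ.hom (op p)).exact_up_to_refinements
    (π₃ ≫ π₂ ≫ y₀ - z₀ ≫ step Y.obj p)
    (show (π₃ ≫ π₂ ≫ y₀ - z₀ ≫ step Y.obj p) ≫ (cokernel.π ψ.hom).app (op p) = 0 by
      rw [Preadditive.sub_comp, Category.assoc z₀, tr_nat, ← Category.assoc z₀, ← hz₀]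
      simp only [Category.assoc, hz, sub_self])
  replace hx : π₄ ≫ (π₃ ≫ π₂ ≫ y₀ - z₀ ≫ step Y.obj p) = x ≫ ψ.hom.app (op p) := hx
  refine ⟨T₄, π₄ ≫ π₃ ≫ π₂ ≫ π₁, inferInstance, x ≫ grπ X.obj p, ?_⟩
  change (π₄ ≫ π₃ ≫ π₂ ≫ π₁) ≫ y = (x ≫ grπ X.obj p) ≫ (gr A p).map ψ.hom
  rw [Category.assoc x, grπ_map, ← Category.assoc x, ← hx]
  simp only [Category.assoc, Preadditive.comp_sub, Preadditive.sub_comp, hy₀, step_grπ, comp_zero, sub_zero]

/-- Graded pieces of a kernel sequence of a strict morphism. -/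
lemma gr_exact_ker {X Y : FilF A} (φ : X ⟶ Y) (hφ : StrictR φ.hom) (p : ℤ) :
    ((ShortComplex.mk (kerι φ) φ (ker_condition φ)).map (grF A p)).Exact := by
  rw [ShortComplex.exact_iff_exact_up_to_refinements]
  intro T (y : T ⟶ (gr A p).obj X.obj) hy
  replace hy : y ≫ (gr A p).map φ.hom = 0 := hy
  obtain ⟨T₁, π₁, hπ₁, x, hx⟩ := surjective_up_to_refinements_of_epi (grπ X.obj p) y
  obtain ⟨T₂, π₂, hπ₂, z, hz⟩ := grπ_lift Y.obj p (x ≫ φ.hom.app (op p)) (by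
    rw [Category.assoc, ← grπ_map, ← Category.assoc, ← hx, Category.assoc, hy, comp_zero])
  obtain ⟨T₃, π₃, hπ₃, x', hx'⟩ := hφ (Int.le_add_one le_rfl) (π₂ ≫ x) z (by
    rw [Category.assoc, hz])
  obtain ⟨T₄, π₄, hπ₄, (k : T₄ ⟶ (kernel φ.hom).obj (op p)), hk⟩ := (exact_kernel_ev φ.hom p).exact_up_to_refinements
    (π₃ ≫ π₂ ≫ x - x' ≫ step X.obj p) (show (π₃ ≫ π₂ ≫ x - x' ≫ step X.obj p) ≫ φ.hom.app (op p) = 0 by
      rw [Preadditive.sub_comp, Category.assoc x', tr_nat, ← Category.assoc x', ← hx']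
      simp only [Category.assoc, hz, sub_self])
  replace hk : π₄ ≫ (π₃ ≫ π₂ ≫ x - x' ≫ step X.obj p) = k ≫ (kernel.ι φ.hom).app (op p) := hk
  refine ⟨T₄, π₄ ≫ π₃ ≫ π₂ ≫ π₁, inferInstance, k ≫ grπ (kernel φ.hom) p, ?_⟩
  change (π₄ ≫ π₃ ≫ π₂ ≫ π₁) ≫ y = (k ≫ grπ (kernel φ.hom) p) ≫ (gr A p).map (kernel.ι φ.hom)
  rw [Category.assoc k, grπ_map, ← Category.assoc k, ← hk]
  simp only [Category.assoc, Preadditive.comp_sub, Preadditive.sub_comp, hx, step_grπ, comp_zero, sub_zero]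

/-- The graded map of a strict monomorphism is a monomorphism. -/
lemma gr_mono_of_strict {X Y : FilF A} (u : X ⟶ Y) [Mono u] (hu : StrictR u.hom) (p : ℤ) :
    Mono ((gr A p).map u.hom) := by
  refine Preadditive.mono_of_cancel_zero _ fun {T} y hy => ?_
  obtain ⟨T₁, π₁, hπ₁, x, hx⟩ := surjective_up_to_refinements_of_epi (grπ X.obj p) y
  obtain ⟨T₂, π₂, hπ₂, z, hz⟩ := grπ_lift Y.obj p (x ≫ u.hom.app (op p)) (by
    rw [Category.assoc, ← grπ_map, ← Category.assoc, ← hx, Category.assoc, hy, comp_zero])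
  obtain ⟨T₃, π₃, hπ₃, x', hx'⟩ := hu (Int.le_add_one le_rfl) (π₂ ≫ x) z (by rw [Category.assoc, hz])
  haveI := mono_app u p
  have h : π₃ ≫ π₂ ≫ x = x' ≫ step X.obj p := by
    rw [← cancel_mono (u.hom.app (op p)), Category.assoc x', tr_nat, ← Category.assoc x', ← hx']
    simp only [Category.assoc, hz]
  haveI : Epi (π₃ ≫ π₂ ≫ π₁) := inferInstance
  rw [← cancel_epi (π₃ ≫ π₂ ≫ π₁), comp_zero]
  simp only [Category.assoc, hx]
  rw [reassoc_of% h, step_grπ, comp_zero]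

lemma strictR_kerι {X Y : FilF A} (φ : X ⟶ Y) : StrictR (kerι φ).hom := by
  intro p q h T (x : T ⟶ (kernel φ.hom).obj (op p)) y hxy
  have h0 : (kernel.ι φ.hom).app (op p) ≫ φ.hom.app (op p) = 0 :=
    congrArg (fun f : kernel φ.hom ⟶ Y.obj => f.app (op p)) (kernel.condition φ.hom)
  obtain ⟨T', π, hπ, k, hk⟩ := (exact_kernel_ev φ.hom q).exact_up_to_refinements y
    (show y ≫ φ.hom.app (op q) = 0 by
      rw [← cancel_mono (tr Y.obj h), zero_comp, Category.assoc, ← tr_nat, ← Category.assoc, ← hxy]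
      change (x ≫ (kernel.ι φ.hom).app (op p)) ≫ φ.hom.app (op p) = 0
      rw [Category.assoc, h0, comp_zero])
  exact ⟨T', π, hπ, k, hk⟩

end Groth.Agent.FilObj
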