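import Groth.Agent.FilObj.Inj
import Mathlib.CategoryTheory.Preadditive.Biproducts
import Mathlib.CategoryTheory.Abelian.FunctorCategory
import Mathlib.CategoryTheory.Limits.Shapes.FiniteProducts

/-!
Biproducts in `Fil^f(A)`; strict embeddings into filtered injective objects.
-/

set_option autoImplicit false
set_option linter.unusedSectionVars false
universe v u

open CategoryTheory CategoryTheory.Limits Opposite FilD

namespace Groth.Agent.FilObj

variable {A : Type u} [Category.{v} A] [Abelian A]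

section biprod

variable (X Y : FilF A)

lemma biprod_app_total (q : ℤᵒᵖ) :
    (biprod.fst : X.obj ⊞ Y.obj ⟶ _).app q ≫ (biprod.inl : X.obj ⟶ X.obj ⊞ Y.obj).app q +
      (biprod.snd : X.obj ⊞ Y.obj ⟶ _).app q ≫ (biprod.inr : Y.obj ⟶ X.obj ⊞ Y.obj).app q = 𝟙 _ := by
  exact congrArg (fun f : X.obj ⊞ Y.obj ⟶ X.obj ⊞ Y.obj => f.app q) biprod.total

lemma isFinFil_biprod : IsFinFil A (X.obj ⊞ Y.obj) := by
  have hmono : ∀ {x y : ℤᵒᵖ} (f : x ⟶ y), Mono ((X.obj ⊞ Y.obj).map f) := by
    intro x y f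
    refine Preadditive.mono_of_cancel_zero _ fun {T} k hk => ?_
    have h1 : k ≫ (biprod.fst : X.obj ⊞ Y.obj ⟶ _).app x = 0 := by
      haveI := X.property.1 f
      rw [← cancel_mono (X.obj.map f), zero_comp, Category.assoc, ← NatTrans.naturality,
        reassoc_of% hk, zero_comp]
    have h2 : k ≫ (biprod.snd : X.obj ⊞ Y.obj ⟶ _).app x = 0 := by
      haveI := Y.property.1 f
      rw [← cancel_mono (Y.obj.map f), zero_comp, Category.assoc, ← NatTrans.naturality,
        reassoc_of% hk, zero_comp]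
    rw [← Category.comp_id k, ← biprod_app_total X Y x, Preadditive.comp_add, reassoc_of% h1,
      reassoc_of% h2, zero_comp, zero_comp, add_zero]
  obtain ⟨b₁, hb₁⟩ := exists_zero_bound X
  obtain ⟨b₂, hb₂⟩ := exists_zero_bound Y
  obtain ⟨a₁, ha₁⟩ := X.property.2.2
  obtain ⟨a₂, ha₂⟩ := Y.property.2.2
  refine ⟨@hmono, ⟨max b₁ b₂, fun p hp => ?_⟩, ⟨min a₁ a₂, fun x y f hx => ?_⟩⟩
  · rw [IsZero.iff_id_eq_zero, ← biprod_app_total X Y (op p),
      (hb₁ p ((le_max_left _ _).trans hp)).eq_of_tgt ((biprod.fst : X.obj ⊞ Y.obj ⟶ _).app (op p)) 0,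
      (hb₂ p ((le_max_right _ _).trans hp)).eq_of_tgt ((biprod.snd : X.obj ⊞ Y.obj ⟶ _).app (op p)) 0,
      zero_comp, zero_comp, add_zero]
  · obtain ⟨v, -, hv⟩ := (ha₁ f (hx.trans (min_le_left _ _))).out
    obtain ⟨w, -, hw⟩ := (ha₂ f (hx.trans (min_le_right _ _))).out
    haveI := hmono f
    refine ⟨(biprod.fst : X.obj ⊞ Y.obj ⟶ _).app y ≫ v ≫ (biprod.inl : X.obj ⟶ X.obj ⊞ Y.obj).app x +
      (biprod.snd : X.obj ⊞ Y.obj ⟶ _).app y ≫ w ≫ (biprod.inr : Y.obj ⟶ X.obj ⊞ Y.obj).app x, ?_, ?_⟩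
    · rw [← cancel_mono ((X.obj ⊞ Y.obj).map f)]
      simp only [Category.assoc, Preadditive.add_comp, ← NatTrans.naturality, reassoc_of% hv,
        reassoc_of% hw, biprod_app_total, Category.id_comp, Category.comp_id]
    · simp only [Category.assoc, Preadditive.add_comp, ← NatTrans.naturality, reassoc_of% hv,
        reassoc_of% hw, biprod_app_total]

/-- The biproduct of two finite filtered objects. -/
noncomputable def biBicone : BinaryBicone X Y where
  pt := ⟨X.obj ⊞ Y.obj, isFinFil_biprod X Y⟩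
  fst := ObjectProperty.homMk biprod.fst
  snd := ObjectProperty.homMk biprod.snd
  inl := ObjectProperty.homMk biprod.inl
  inr := ObjectProperty.homMk biprod.inr
  inl_fst := ObjectProperty.hom_ext _ biprod.inl_fst
  inl_snd := ObjectProperty.hom_ext _ biprod.inl_snd
  inr_fst := ObjectProperty.hom_ext _ biprod.inr_fst
  inr_snd := ObjectProperty.hom_ext _ biprod.inr_snd

instance : HasBinaryBiproducts (FilF A) where
  has_binary_biproduct X Y := hasBinaryBiproduct_of_total (biBicone X Y)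
    (ObjectProperty.hom_ext _ biprod.total)

end biprod

lemma mono_of_app {X Y : FilF A} (u : X ⟶ Y) (h : ∀ p : ℤ, Mono (u.hom.app (op p))) : Mono u := by
  haveI : ∀ x, Mono (u.hom.app x) := fun x => h x.unop
  haveI : Mono u.hom := NatTrans.mono_of_mono_app _
  exact (IsFinFil A).ι.mono_of_mono_map (show Mono ((IsFinFil A).ι.map u) from ‹Mono u.hom›)

variable [EnoughInjectives A]

/-- Every finite filtered object embeds strictly into a filtered injective one. -/
theorem exists_embed (X : FilF A) :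
    ∃ (I : FilF A) (u : X ⟶ I), IsFilteredInjective I ∧ Mono u ∧ IsStrict u := by
  classical
  obtain ⟨b, hb⟩ := exists_zero_bound X
  obtain ⟨a, ha⟩ := exists_const_bound X
  let S : Finset ℤ := Finset.Ico a b
  let J : ↥S → A := fun p => Injective.under (cokernel (tr X.obj (show a ≤ p.1 + 1 by
    have := (Finset.mem_Ico.mp p.2).1; omega)))
  let F : ℤᵒᵖ ⥤ A :=
    { obj := fun x => ∏ᶜ fun p : {p : ↥S // x.unop ≤ p.1} => J p.1
      map := fun {x y} f => Pi.lift fun p =>
        if h : x.unop ≤ p.1.1 then Pi.π (fun p : {p : ↥S // x.unop ≤ p.1} => J p.1) ⟨p.1, h⟩ else 0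
      map_id := fun x => by
        apply Pi.hom_ext
        intro p
        simp [p.2]
      map_comp := fun {x y z} f g => by
        apply Pi.hom_ext
        intro p
        have h1 : y.unop ≤ x.unop := leOfHom f.unop
        by_cases h : y.unop ≤ p.1.1
        · simp [h]
        · simp [h, show ¬ x.unop ≤ p.1.1 from fun h' => h (h1.trans h')] }
  have Fmono : ∀ {x y : ℤᵒᵖ} (f : x ⟶ y), Mono (F.map f) := by
    intro x y f
    refine Preadditive.mono_of_cancel_zero _ fun {T} k hk => ?_
    apply Pi.hom_ext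
    intro p
    have h1 : y.unop ≤ x.unop := leOfHom f.unop
    have h2 : y.unop ≤ p.1.1 := h1.trans p.2
    have := hk =≫ Pi.π (fun q : {q : ↥S // y.unop ≤ q.1} => J q.1) ⟨p.1, h2⟩
    simpa [F, p.2] using this
  have Ffin : IsFinFil A F := by
    refine ⟨@Fmono, ⟨b, fun p hp => ?_⟩, ⟨a, fun x y f hx => ?_⟩⟩
    · rw [IsZero.iff_id_eq_zero]
      apply Pi.hom_ext
      intro q
      exact absurd q.2 (by have h := (Finset.mem_Ico.mp q.1.2).2; simp only [unop_op]; omega)
    · haveI := Fmono f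
      refine ⟨Pi.lift fun p => Pi.π (fun q : {q : ↥S // y.unop ≤ q.1} => J q.1)
        ⟨p.1, (leOfHom f.unop).trans p.2⟩, ?_, ?_⟩
      · apply Pi.hom_ext
        intro p
        simp [F, p.2]
      · apply Pi.hom_ext
        intro p
        simp [F, show x.unop ≤ p.1.1 from hx.trans (Finset.mem_Ico.mp p.1.2).1]
  haveI ci : ∀ q : ℤ, IsIso (tr X.obj (min_le_left a q)) := fun q => ha _ le_rfl
  let c : ∀ q : ℤ, X.obj.obj (op q) ⟶ X.obj.obj (op a) := fun q =>
    tr X.obj (min_le_right a q) ≫ inv (tr X.obj (min_le_left a q))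
  have hc : ∀ (q m : ℤ) (h1 : m ≤ a) (h2 : m ≤ q), c q ≫ tr X.obj h1 = tr X.obj h2 := by
    intro q m h1 h2
    rw [← tr_comp X.obj (le_min h1 h2) (min_le_left a q)]
    simp only [c, Category.assoc]
    rw [IsIso.inv_hom_id_assoc, tr_comp]
  have cnat : ∀ (q q' : ℤ) (h : q ≤ q'), tr X.obj h ≫ c q = c q' := by
    intro q q' h
    rw [← cancel_mono (tr X.obj (min_le_left a q)), Category.assoc,
      hc q _ (min_le_left a q) (min_le_right a q),
      hc q' _ (min_le_left a q) ((min_le_right a q).trans h), tr_comp]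
  let ι₀ : ∀ p : ↥S, X.obj.obj (op a) ⟶ J p := fun p => cokernel.π _ ≫ Injective.ι _
  have hι₀ : ∀ (p : ↥S) (h : a ≤ p.1 + 1), tr X.obj h ≫ ι₀ p = 0 := fun p h => by
    show tr X.obj h ≫ cokernel.π _ ≫ Injective.ι _ = 0
    rw [cokernel.condition_assoc, zero_comp]
  let u : X.obj ⟶ F :=
    { app := fun x => Pi.lift fun p => c x.unop ≫ ι₀ p.1
      naturality := fun x y f => by
        apply Pi.hom_ext
        intro p
        have h1 : y.unop ≤ x.unop := leOfHom f.unop
        have h2 : X.obj.map f ≫ c y.unop = c x.unop := cnat _ _ h1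
        by_cases h : x.unop ≤ p.1.1
        · simp [F, h, reassoc_of% h2]
        · simp only [F, Category.assoc, Pi.lift_π, h, dif_neg, not_false_iff, comp_zero]
          rw [reassoc_of% h2]
          have h3 : a ≤ p.1.1 + 1 := by have := (Finset.mem_Ico.mp p.1.2).1; omega
          have h4 : p.1.1 + 1 ≤ x.unop := by omega
          rw [← cnat _ _ h4]
          have h5 : c (p.1.1 + 1) = tr X.obj h3 := by simpa [tr_refl] using hc (p.1.1 + 1) a le_rfl h3
          rw [Category.assoc, h5, hι₀, comp_zero] }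
  let I : FilF A := ⟨F, Ffin⟩
  let u' : X ⟶ I := ObjectProperty.homMk u
  have hI : IsFilteredInjective I := isFilteredInjective_of_level fun q => by
    show Injective (∏ᶜ fun p : {p : ↥S // q ≤ p.1} => J p.1)
    infer_instance
  have hstep : ∀ (p : ℤ) ⦃T : A⦄ (x : T ⟶ X.obj.obj (op p)) (y : T ⟶ F.obj (op (p + 1))),
      x ≫ u.app (op p) = y ≫ step F p →
      ∃ (T' : A) (π : T' ⟶ T) (_ : Epi π) (x' : T' ⟶ X.obj.obj (op (p + 1))),
        π ≫ x = x' ≫ step X.obj p ∧ π ≫ y = x' ≫ u.app (op (p + 1)) := by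
    intro p T x y hxy
    haveI : Mono (step F p) := Fmono _
    have key : ∀ {T' : A} (π : T' ⟶ T) (x' : T' ⟶ X.obj.obj (op (p + 1))),
        π ≫ x = x' ≫ step X.obj p → π ≫ y = x' ≫ u.app (op (p + 1)) := by
      intro T' π x' h
      rw [← cancel_mono (step F p), Category.assoc, ← hxy, ← Category.assoc, h, Category.assoc,
        Category.assoc, tr_nat]
    rcases lt_trichotomy p a with hp | hp | hp
    · haveI := ha (Int.le_add_one (le_refl p)) (by omega : p + 1 ≤ a)
      have h : 𝟙 T ≫ x = (x ≫ inv (step X.obj p)) ≫ step X.obj p := by simp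
      exact ⟨T, 𝟙 _, inferInstance, _, h, key _ _ h⟩
    all_goals
      by_cases hpb : b ≤ p
      · have h : 𝟙 T ≫ x = (0 : T ⟶ X.obj.obj (op (p + 1))) ≫ step X.obj p :=
          (hb p hpb).eq_of_tgt _ _
        exact ⟨T, 𝟙 _, inferInstance, 0, h, key _ _ h⟩
      · have hap : a ≤ p := by omega
        have hpS : p ∈ S := Finset.mem_Ico.mpr ⟨hap, by omega⟩
        have h0 := hxy =≫ Pi.π (fun q : {q : ↥S // p ≤ q.1} => J q.1) ⟨⟨p, hpS⟩, le_rfl⟩
        simp [u, F, step, tr] at h0
        have h5 : c p = tr X.obj hap := by simpa [tr_refl] using hc p a le_rfl hap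
        rw [h5] at h0
        have h1 : (x ≫ tr X.obj hap) ≫ cokernel.π (tr X.obj (show a ≤ p + 1 by omega)) = 0 := by
          rw [← cancel_mono (Injective.ι _), zero_comp]
          simpa [ι₀] using h0
        obtain ⟨T', π, hπ, (x' : T' ⟶ X.obj.obj (op (p + 1))), hx'⟩ :=
          (ShortComplex.exact_of_g_is_cokernel (ShortComplex.mk _ _ (cokernel.condition
            (tr X.obj (show a ≤ p + 1 by omega)))) (cokernelIsCokernel _)).exact_up_to_refinements
            (x ≫ tr X.obj hap) h1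
        have h : π ≫ x = x' ≫ step X.obj p := by
          rw [← cancel_mono (tr X.obj hap), Category.assoc, hx', Category.assoc, tr_comp]
        exact ⟨T', π, hπ, x', h, key _ _ h⟩
  have hmono : ∀ p : ℤ, Mono (u.app (op p)) := fun p => by
    refine down_induction (fun p => Mono (u.app (op p))) b ?_ ?_ p
    · intro q hq
      exact Preadditive.mono_of_cancel_zero _ fun k _ => (hb q hq).eq_of_tgt _ _
    · intro q ih
      refine Preadditive.mono_of_cancel_zero _ fun {T} k hk => ?_
      obtain ⟨T', π, hπ, x', hx, hy⟩ := hstep q k 0 (by rw [hk, zero_comp])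
      rw [comp_zero] at hy
      haveI := ih
      rw [zero_of_comp_mono _ hy.symm, zero_comp] at hx
      rw [← cancel_epi π, hx, comp_zero]
  haveI : ∀ {p q : ℤ} (h : p ≤ q), Mono (tr F h) := fun h => Fmono _
  refine ⟨I, u', hI, mono_of_app u' hmono, (isStrict_iff u').mpr (strictR_of_step u fun p T x y hxy => ?_)⟩
  obtain ⟨T', π, hπ, x', -, hy⟩ := hstep p x y hxy
  exact ⟨T', π, hπ, x', hy⟩

end Groth.Agent.FilObj
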