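import Groth.Agent.FilObj.KInj
import Mathlib.Algebra.Homology.Single

/-!
Horseshoe lemma for filtered injective resolutions.
-/

set_option autoImplicit false
set_option linter.unusedSectionVars false
universe v u

open CategoryTheory CategoryTheory.Limits Opposite FilD

namespace Groth.Agent.FilObj

variable {A : Type u} [Category.{v} A] [Abelian A]

lemma epi_of_app {X Y : FilF A} (g : X ⟶ Y) (h : ∀ p : ℤ, Epi (g.hom.app (op p))) : Epi g := by
  haveI : ∀ x, Epi (g.hom.app x) := fun x => h x.unop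
  haveI : Epi g.hom := NatTrans.epi_of_epi_app _
  exact (IsFinFil A).ι.epi_of_epi_map (show Epi ((IsFinFil A).ι.map g) from ‹Epi g.hom›)

theorem horseshoe (S : ShortComplex (FilF A))
    (hS : ∀ p : ℤ, (S.map (ev A p)).ShortExact)
    (I : CochainComplex (FilF A) ℤ) [I.IsStrictlyGE 0] (hI : ∀ n, IsFilteredInjective (I.X n))
    (a : (HomologicalComplex.single (FilF A) (ComplexShape.up ℤ) 0).obj S.X₁ ⟶ I)
    (J : CochainComplex (FilF A) ℤ) [J.IsStrictlyGE 0]
    (c : (HomologicalComplex.single (FilF A) (ComplexShape.up ℤ) 0).obj S.X₃ ⟶ J) (hc : IsFilteredQuasiIso c) :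
    ∃ (M : CochainComplex (FilF A) ℤ) (α : I ⟶ M) (β : M ⟶ J)
      (b : (HomologicalComplex.single (FilF A) (ComplexShape.up ℤ) 0).obj S.X₂ ⟶ M),
      (∀ n, ∃ (r : M.X n ⟶ I.X n) (s : J.X n ⟶ M.X n), α.f n ≫ r = 𝟙 _ ∧ s ≫ β.f n = 𝟙 _ ∧ α.f n ≫ β.f n = 0 ∧
        r ≫ α.f n + β.f n ≫ s = 𝟙 _) ∧
      a ≫ α = (HomologicalComplex.single (FilF A) (ComplexShape.up ℤ) 0).map S.f ≫ b ∧
      b ≫ β = (HomologicalComplex.single (FilF A) (ComplexShape.up ℤ) 0).map S.g ≫ c := by
  have hf : ∀ p : ℤ, Mono (S.f.hom.app (op p)) := fun p => (hS p).mono_f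
  have hg : ∀ p : ℤ, Epi (S.g.hom.app (op p)) := fun p => (hS p).epi_g
  haveI : Mono S.f := mono_of_app _ hf
  haveI : Epi S.g := epi_of_app _ hg
  have hfs : StrictR S.f.hom := by
    intro p q h T x y hxy
    have h0 : S.f.hom.app (op p) ≫ S.g.hom.app (op p) = 0 :=
      congrArg (fun f : S.X₁ ⟶ S.X₃ => f.hom.app (op p)) S.zero
    obtain ⟨T', π, hπ, x', hx'⟩ := (hS q).exact.exact_up_to_refinements y (show y ≫ S.g.hom.app (op q) = 0 by
      rw [← cancel_mono (tr S.X₃.obj h), zero_comp, Category.assoc, ← tr_nat, ← Category.assoc, ← hxy,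
        Category.assoc, h0, comp_zero])
    exact ⟨T', π, hπ, x', hx'⟩
  have hgs : StrictR S.g.hom := by
    intro p q h T x y _
    haveI := hg q
    exact surjective_up_to_refinements_of_epi (S.g.hom.app (op q)) y
  let a0 : S.X₁ ⟶ I.X 0 := (HomologicalComplex.singleObjXSelf (ComplexShape.up ℤ) 0 S.X₁).inv ≫ a.f 0
  let c0 : S.X₃ ⟶ J.X 0 := (HomologicalComplex.singleObjXSelf (ComplexShape.up ℤ) 0 S.X₃).inv ≫ c.f 0
  have ha0 : a0 ≫ I.d 0 1 = 0 := by
    simp only [a0, Category.assoc, a.comm 0 1]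
    simp
  have hc0 : c0 ≫ J.d 0 1 = 0 := by
    simp only [c0, Category.assoc, c.comm 0 1]
    simp
  obtain ⟨r, hr⟩ := desc_strictMono S.f ((isStrict_iff _).mpr hfs) (hI 0) a0
  obtain ⟨s, hs⟩ := desc_strict S.g hgs (hI 1) (r ≫ I.d 0 1) (fun p T y hy => by
    obtain ⟨T', π, hπ, (x : T' ⟶ S.X₁.obj.obj (op p)), hx⟩ := (hS p).exact.exact_up_to_refinements y hy
    replace hx : π ≫ y = x ≫ S.f.hom.app (op p) := hx
    have h0 : S.f.hom.app (op p) ≫ (r ≫ I.d 0 1).hom.app (op p) = 0 :=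
      congrArg (fun f : S.X₁ ⟶ I.X 1 => f.hom.app (op p)) (show S.f ≫ r ≫ I.d 0 1 = 0 by
        rw [reassoc_of% hr, ha0])
    rw [← cancel_epi π, comp_zero, ← Category.assoc, hx, Category.assoc, h0, comp_zero])
  have hsd : s ≫ I.d 1 2 = 0 := by
    rw [← cancel_epi S.g, reassoc_of% hs, I.d_comp_d, comp_zero, comp_zero]
  haveI : (I⟦(1 : ℤ)⟧).IsStrictlyGE (-1) := I.isStrictlyGE_shift 0 1 (-1) (by omega)
  let sc : (HomologicalComplex.single (FilF A) (ComplexShape.up ℤ) 0).obj S.X₃ ⟶ I⟦(1 : ℤ)⟧ :=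
    HomologicalComplex.mkHomFromSingle (s : S.X₃ ⟶ (I⟦(1 : ℤ)⟧).X 0) (by
      intro k hk
      obtain rfl : k = 1 := by simpa using hk.symm
      change s ≫ ((1 : ℤ).negOnePow • I.d 1 2) = 0
      rw [Linear.comp_units_smul, hsd, smul_zero])
  obtain ⟨β₀, hβ₀⟩ := (precomp_bijective (I⟦(1 : ℤ)⟧) (-1) (fun n => hI (n + 1)) c hc).2
    ((HomotopyCategory.quotient (FilF A) (ComplexShape.up ℤ)).map sc)
  obtain ⟨w, rfl⟩ := (HomotopyCategory.quotient (FilF A) (ComplexShape.up ℤ)).map_surjective β₀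
  let H := HomotopyCategory.homotopyOfEq (c ≫ w) sc (by rw [Functor.map_comp]; exact hβ₀)
  let W : ∀ n, J.X n ⟶ I.X (n + 1) := fun n => w.f n
  have hW : ∀ n, W n ≫ I.d (n + 1) (n + 1 + 1) + J.d n (n + 1) ≫ W (n + 1) = 0 := by
    intro n
    have := w.comm n (n + 1)
    simp only [CochainComplex.shiftFunctor_obj_d', Int.negOnePow_one, Units.neg_smul, one_smul,
      Preadditive.comp_neg] at this
    have h2 : -(W n ≫ I.d (n + 1) (n + 1 + 1)) = J.d n (n + 1) ≫ W (n + 1) :=
      (Preadditive.comp_neg _ _).symm.trans this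
    rw [← h2, add_neg_cancel]
  obtain ⟨h, hh⟩ : ∃ h : S.X₃ ⟶ I.X 0, c0 ≫ W 0 = s - h ≫ I.d 0 1 := by
    refine ⟨(HomologicalComplex.singleObjXSelf (ComplexShape.up ℤ) 0 S.X₃).inv ≫ (H.hom 0 (-1) : _ ⟶ I.X ((-1 : ℤ) + 1)) ≫
      (I.XIsoOfEq (show (-1 : ℤ) + 1 = 0 by norm_num)).hom, ?_⟩
    have h1 := H.comm 0
    rw [dNext_eq _ (show (ComplexShape.up ℤ).Rel 0 1 from rfl),
      prevD_eq _ (show (ComplexShape.up ℤ).Rel (-1) 0 from rfl), HomologicalComplex.single_obj_d,
      zero_comp, zero_add] at h1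
    simp only [sc, HomologicalComplex.mkHomFromSingle_f] at h1
    have h2 : H.hom 0 (-1) ≫ (I⟦(1 : ℤ)⟧).d (-1) 0 =
        -((H.hom 0 (-1) : _ ⟶ I.X ((-1 : ℤ) + 1)) ≫ I.d ((-1 : ℤ) + 1) 1) := by
      rw [CochainComplex.shiftFunctor_obj_d', Int.negOnePow_one, Units.neg_smul, one_smul]
      exact Preadditive.comp_neg _ _
    have hs' : (sc.f 0 : _ ⟶ I.X 1) = (HomologicalComplex.singleObjXSelf (ComplexShape.up ℤ) 0 S.X₃).hom ≫ s :=
      HomologicalComplex.mkHomFromSingle_f _ _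
    have h3 : c.f 0 ≫ W 0 = -((H.hom 0 (-1) : _ ⟶ I.X ((-1 : ℤ) + 1)) ≫ I.d ((-1 : ℤ) + 1) 1)
        + (HomologicalComplex.singleObjXSelf (ComplexShape.up ℤ) 0 S.X₃).hom ≫ s := by
      rw [← h2]
      exact h1
    simp only [c0, Category.assoc]
    rw [h3, Preadditive.comp_add, Iso.inv_hom_id_assoc, Preadditive.comp_neg]
    first
      | erw [HomologicalComplex.XIsoOfEq_hom_comp_d]
      | erw [Category.assoc, HomologicalComplex.XIsoOfEq_hom_comp_d]
    rw [neg_add_eq_sub]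
  let M : CochainComplex (FilF A) ℤ := CochainComplex.of (fun n => I.X n ⊞ J.X n)
    (fun n => biprod.desc (I.d n (n + 1) ≫ biprod.inl) (-(W n ≫ biprod.inl) + J.d n (n + 1) ≫ biprod.inr))
    (fun n => by
      apply biprod.hom_ext'
      · simp
      · simp only [biprod.inr_desc_assoc, Preadditive.add_comp, Category.assoc, biprod.inl_desc,
          biprod.inr_desc, Preadditive.comp_add, HomologicalComplex.d_comp_d_assoc, zero_comp, add_zero,
          comp_zero]
        simp only [Preadditive.neg_comp, Preadditive.comp_neg, Category.assoc, biprod.inl_desc]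
        rw [← neg_add, ← Category.assoc, ← Category.assoc, ← Preadditive.add_comp, hW, zero_comp, neg_zero])
  let α : I ⟶ M := { f := fun n => biprod.inl
                     comm' := fun i j hij => by
                       obtain rfl : i + 1 = j := hij
                       simp [M] }
  let β : M ⟶ J := { f := fun n => biprod.snd
                     comm' := fun i j hij => by
                       obtain rfl : i + 1 = j := hij
                       apply biprod.hom_ext' <;> simp [M] }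
  have hb : (biprod.lift (r - S.g ≫ h) (S.g ≫ c0) : S.X₂ ⟶ M.X 0) ≫ M.d 0 1 = 0 := by
    have hd : M.d 0 1 = (biprod.desc (I.d 0 1 ≫ biprod.inl) (-(W 0 ≫ biprod.inl) + J.d 0 1 ≫ biprod.inr) :
        I.X 0 ⊞ J.X 0 ⟶ I.X 1 ⊞ J.X 1) :=
      CochainComplex.of_d (fun n => I.X n ⊞ J.X n)
        (fun n => biprod.desc (I.d n (n + 1) ≫ biprod.inl) (-(W n ≫ biprod.inl) + J.d n (n + 1) ≫ biprod.inr)) 0
    rw [hd]
    change biprod.lift (r - S.g ≫ h) (S.g ≫ c0) ≫
      biprod.desc (I.d 0 1 ≫ biprod.inl) (-(W 0 ≫ biprod.inl) + J.d 0 1 ≫ biprod.inr) = 0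
    rw [biprod.lift_desc]
    simp only [Preadditive.sub_comp, Category.assoc, Preadditive.comp_add, Preadditive.comp_neg, reassoc_of% hc0,
      zero_comp, comp_zero, add_zero]
    rw [← reassoc_of% hs]
    erw [reassoc_of% hh]
    simp only [Preadditive.sub_comp, Preadditive.comp_sub, Category.assoc]
    exact add_neg_cancel _
  let b : (HomologicalComplex.single (FilF A) (ComplexShape.up ℤ) 0).obj S.X₂ ⟶ M :=
    HomologicalComplex.mkHomFromSingle (biprod.lift (r - S.g ≫ h) (S.g ≫ c0)) (by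
      intro k hk
      obtain rfl : k = 1 := by simpa using hk.symm
      exact hb)
  refine ⟨M, α, β, b, fun n => ⟨biprod.fst, biprod.inr, biprod.inl_fst, biprod.inr_snd, biprod.inl_snd,
    biprod.total⟩, ?_, ?_⟩
  · apply HomologicalComplex.from_single_hom_ext
    simp only [HomologicalComplex.comp_f, HomologicalComplex.single_map_f_self, b, α,
      HomologicalComplex.mkHomFromSingle_f, Category.assoc, Iso.inv_hom_id_assoc]
    rw [← cancel_epi (HomologicalComplex.singleObjXSelf (ComplexShape.up ℤ) 0 S.X₁).inv,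
      Iso.inv_hom_id_assoc]
    change _ = S.f ≫ biprod.lift (r - S.g ≫ h) (S.g ≫ c0)
    apply biprod.hom_ext
    · simp [reassoc_of% S.zero, hr, a0]
    · simp [reassoc_of% S.zero]
  · apply HomologicalComplex.from_single_hom_ext
    simp only [HomologicalComplex.comp_f, HomologicalComplex.single_map_f_self, b, β,
      HomologicalComplex.mkHomFromSingle_f, Category.assoc]
    erw [biprod.lift_snd]
    all_goals simp [c0]

end Groth.Agent.FilObj
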