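import Groth.Agent.FilObj.Basic
import Mathlib.CategoryTheory.Abelian.Exact
import Mathlib.Algebra.Homology.ShortComplex.ShortExact

/-!
Filtered injective objects and extension along strict morphisms; kernels in `Fil^f(A)`.
-/

set_option autoImplicit false
set_option linter.unusedSectionVars false
universe v u

open CategoryTheory CategoryTheory.Limits Opposite FilD

namespace Groth.Agent.FilObj

variable {A : Type u} [Category.{v} A] [Abelian A]

/-- Build a natural transformation from its behaviour on single steps. -/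
def natOfSteps {F G : ℤᵒᵖ ⥤ A} (g : ∀ q : ℤ, F.obj (op q) ⟶ G.obj (op q))
    (hg : ∀ q, step F q ≫ g q = g (q + 1) ≫ step G q) : F ⟶ G where
  app x := g x.unop
  naturality x y f := by
    obtain ⟨q⟩ := x
    obtain ⟨p⟩ := y
    have h : p ≤ q := leOfHom f.unop
    change tr F h ≫ g p = g q ≫ tr G h
    clear f
    induction q, h using Int.leInduction with
    | base => simp [tr_refl]
    | succ q h ih =>
      rw [← tr_comp F h (Int.le_add_one le_rfl), ← tr_comp G h (Int.le_add_one le_rfl),
        Category.assoc, ih, reassoc_of% (hg q)]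

lemma isFinFil_of_kernel {X Y : FilF A} {K : ℤᵒᵖ ⥤ A} (i : K ⟶ X.obj) (g : X.obj ⟶ Y.obj)
    (w : i ≫ g = 0) (hi : ∀ x, Mono (i.app x))
    (he : ∀ p : ℤ, ((ShortComplex.mk i g w).map ((evaluation ℤᵒᵖ A).obj (op p))).Exact) :
    IsFinFil A K := by
  obtain ⟨b, hb⟩ := exists_zero_bound X
  refine ⟨fun x y f => ?_, ⟨b, fun p hp => ?_⟩, ?_⟩
  · haveI := hi x
    haveI := X.property.1 f
    exact mono_of_mono_fac (i.naturality f)
  · haveI := hi (op p)
    exact IsZero.of_mono (i.app (op p)) (hb p hp)
  · obtain ⟨a₁, ha₁⟩ := X.property.2.2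
    obtain ⟨a₂, ha₂⟩ := Y.property.2.2
    refine ⟨min a₁ a₂, fun x y f hx => ?_⟩
    have h1 : IsIso (X.obj.map f) := ha₁ f (hx.trans (min_le_left _ _))
    obtain ⟨v, hv1, hv2⟩ := h1.out
    haveI := ha₂ f (hx.trans (min_le_right _ _))
    haveI : Mono (K.map f) := by
      haveI := hi x
      exact mono_of_mono_fac (i.naturality f)
    have : Epi (K.map f) := by
      rw [epi_iff_surjective_up_to_refinements]
      intro T z
      haveI : Mono (i.app y) := hi y
      obtain ⟨T', π, hπ, (k : T' ⟶ K.obj x), hk⟩ := (he x.unop).exact_up_to_refinements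
        (z ≫ i.app y ≫ v) (show (z ≫ i.app y ≫ v) ≫ g.app x = 0 by
          rw [← cancel_mono (Y.obj.map f), zero_comp]
          simp only [Category.assoc]
          rw [← g.naturality, reassoc_of% hv2, ← NatTrans.comp_app, w]
          simp)
      replace hk : π ≫ z ≫ i.app y ≫ v = k ≫ i.app x := hk
      refine ⟨T', π, hπ, k, ?_⟩
      rw [← cancel_mono (i.app y), Category.assoc, Category.assoc, i.naturality, ← Category.assoc k, ← hk]
      simp [hv2]
    exact isIso_of_mono_of_epi _

lemma exact_kernel_ev {F G : ℤᵒᵖ ⥤ A} (g : F ⟶ G) (p : ℤ) :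
    ((ShortComplex.mk (kernel.ι g) g (kernel.condition g)).map
      ((evaluation ℤᵒᵖ A).obj (op p))).Exact :=
  (ShortComplex.exact_of_f_is_kernel
    (ShortComplex.mk (kernel.ι g) g (kernel.condition g)) (kernelIsKernel g)).map _

/-- The levelwise kernel as a finite filtered object. -/
noncomputable def kerObj {X Y : FilF A} (φ : X ⟶ Y) : FilF A :=
  ⟨kernel φ.hom, isFinFil_of_kernel (kernel.ι φ.hom) φ.hom (kernel.condition _)
    (fun x => (inferInstance : Mono (((evaluation ℤᵒᵖ A).obj x).map (kernel.ι φ.hom))))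
    (exact_kernel_ev φ.hom)⟩

noncomputable def kerι {X Y : FilF A} (φ : X ⟶ Y) : kerObj φ ⟶ X :=
  ObjectProperty.homMk (kernel.ι φ.hom)

lemma mono_app {X Y : FilF A} (u : X ⟶ Y) [Mono u] (p : ℤ) : Mono (u.hom.app (op p)) := by
  have h0 : kerι u = 0 := by
    rw [← cancel_mono u, zero_comp]
    exact ObjectProperty.hom_ext _ (kernel.condition u.hom)
  have hι : kernel.ι u.hom = 0 := congrArg InducedCategory.Hom.hom h0
  haveI : Mono u.hom := Abelian.mono_of_kernel_ι_eq_zero _ hι
  exact (inferInstance : Mono (((evaluation ℤᵒᵖ A).obj (op p)).map u.hom))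

lemma strictR_id_like {X Y : FilF A} (φ : X ⟶ Y) (h : IsStrict φ) : StrictR φ.hom :=
  (isStrict_iff φ).mp h

/-- Filtered injective objects have injective filtration steps. -/
lemma injective_level {I : FilF A} (hI : IsFilteredInjective I) (p : ℤ) :
    Injective (I.obj.obj (op p)) := by
  obtain ⟨b, hb⟩ := exists_zero_bound I
  refine down_induction (fun p => Injective (I.obj.obj (op p))) b
    (fun q hq => (hb q hq).injective) (fun q hq => ?_) p
  haveI : Injective (I.obj.obj (op (q + 1))) := hq
  haveI : Injective ((gr A q).obj I.obj) := hI q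
  let S := ShortComplex.mk (step I.obj q) (grπ I.obj q) (step_grπ _ _)
  haveI : Mono (step I.obj q) := inferInstance
  have hS : S.Exact := ShortComplex.exact_of_g_is_cokernel S (cokernelIsCokernel _)
  let s : S.Splitting := ShortComplex.Splitting.ofExactOfRetraction S hS
    (Injective.factorThru (𝟙 _) (step I.obj q)) (Injective.comp_factorThru _ _) inferInstance
  refine ⟨fun {U W} f i _ => ⟨Injective.factorThru (f ≫ s.r) i ≫ step I.obj q
    + Injective.factorThru (f ≫ grπ I.obj q) i ≫ s.s, ?_⟩⟩
  rw [Preadditive.comp_add, Injective.comp_factorThru_assoc, Injective.comp_factorThru_assoc,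
    Category.assoc, Category.assoc, ← Preadditive.comp_add]
  change f ≫ (s.r ≫ S.f + S.g ≫ s.s) = f
  rw [s.id, Category.comp_id]

/-- A filtered object with injective steps is filtered injective. -/
lemma isFilteredInjective_of_level {I : FilF A} (hI : ∀ p, Injective (I.obj.obj (op p))) :
    IsFilteredInjective I := by
  intro q
  haveI := hI q
  haveI : Injective (I.obj.obj (op (q + 1))) := hI _
  let S := ShortComplex.mk (step I.obj q) (grπ I.obj q) (step_grπ _ _)
  haveI : Mono (step I.obj q) := inferInstance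
  have hS : S.Exact := ShortComplex.exact_of_g_is_cokernel S (cokernelIsCokernel _)
  let s : S.Splitting := ShortComplex.Splitting.ofExactOfRetraction S hS
    (Injective.factorThru (𝟙 _) (step I.obj q)) (Injective.comp_factorThru _ _) inferInstance
  change Injective S.X₃
  refine ⟨fun {U W} f i _ => ⟨Injective.factorThru (f ≫ s.s) i ≫ S.g, ?_⟩⟩
  rw [Injective.comp_factorThru_assoc, Category.assoc, s.s_g, Category.comp_id]

/-- Extension along a strict morphism into a filtered injective object. -/
theorem desc_strict {Y Z I : FilF A} (g : Y ⟶ Z) (hg : StrictR g.hom)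
    (hI : IsFilteredInjective I) (ψ : Y ⟶ I)
    (hψ : ∀ (p : ℤ) ⦃T : A⦄ (y : T ⟶ Y.obj.obj (op p)), y ≫ g.hom.app (op p) = 0 →
      y ≫ ψ.hom.app (op p) = 0) :
    ∃ h : Z ⟶ I, g ≫ h = ψ := by
  classical
  obtain ⟨b, hb⟩ := exists_zero_bound I
  let Good (p : ℤ) : Prop := ∃ G : ∀ q : ℤ, Z.obj.obj (op q) ⟶ I.obj.obj (op q), ∀ q, p ≤ q →
    g.hom.app (op q) ≫ G q = ψ.hom.app (op q) ∧ step Z.obj q ≫ G q = G (q + 1) ≫ step I.obj q
  have good : ∀ p, Good p := by
    intro p
    refine down_induction Good b ?_ ?_ p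
    · intro p hp
      exact ⟨fun _ => 0, fun q hq => ⟨(hb q (hp.trans hq)).eq_of_tgt _ _,
        (hb q (hp.trans hq)).eq_of_tgt _ _⟩⟩
    · intro p ⟨G, hG⟩
      let d : Y.obj.obj (op p) ⊞ Z.obj.obj (op (p + 1)) ⟶ Z.obj.obj (op p) :=
        biprod.desc (g.hom.app (op p)) (step Z.obj p)
      let e : Y.obj.obj (op p) ⊞ Z.obj.obj (op (p + 1)) ⟶ I.obj.obj (op p) :=
        biprod.desc (ψ.hom.app (op p)) (G (p + 1) ≫ step I.obj p)
      haveI := injective_level hI p
      have hS : (ShortComplex.mk (kernel.ι d) d (kernel.condition d)).Exact :=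
        ShortComplex.exact_kernel d
      have he : kernel.ι d ≫ e = 0 := by
        obtain ⟨y, hy0⟩ : ∃ y, y = kernel.ι d ≫ biprod.fst := ⟨_, rfl⟩
        obtain ⟨z, hz0⟩ : ∃ z, z = kernel.ι d ≫ biprod.snd := ⟨_, rfl⟩
        have hkl : kernel.ι d = biprod.lift y z := by ext <;> simp [hy0, hz0]
        have hk : y ≫ g.hom.app (op p) + z ≫ step Z.obj p = 0 := by
          have h0 := kernel.condition d
          rw [hkl] at h0
          simpa [d] using h0
        obtain ⟨T, π, hπ, y', hy'⟩ := hg (Int.le_add_one le_rfl) y (-z) (by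
          rw [Preadditive.neg_comp]; exact eq_neg_of_add_eq_zero_left hk)
        rw [← cancel_epi π, comp_zero, hkl, biprod.lift_desc]
        have h2 := hψ p (π ≫ y - y' ≫ step Y.obj p) (by
          rw [Preadditive.sub_comp, Category.assoc y', tr_nat, ← Category.assoc y', ← hy',
            Category.assoc, Category.assoc, eq_neg_of_add_eq_zero_left hk, Preadditive.neg_comp,
            sub_self])
        rw [Preadditive.sub_comp, sub_eq_zero, Category.assoc, Category.assoc y', tr_nat] at h2
        have h3 : π ≫ z = -(y' ≫ g.hom.app (op (p + 1))) := by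
          rw [← hy', Preadditive.comp_neg, neg_neg]
        rw [Preadditive.comp_add, h2, ← Category.assoc π z, h3]
        simp only [Preadditive.neg_comp, Category.assoc]
        rw [← reassoc_of% ((hG (p + 1) le_rfl).1), add_neg_cancel]
      obtain ⟨h, hh⟩ : ∃ h, d ≫ h = e := ⟨hS.descToInjective e he, hS.comp_descToInjective e he⟩
      refine ⟨Function.update G p h, fun q hq => ?_⟩
      rw [Function.update_of_ne (show q + 1 ≠ p by omega)]
      by_cases hqp : q = p
      · subst hqp
        rw [Function.update_self]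
        exact ⟨by simpa [d, e] using biprod.inl ≫= hh, by simpa [d, e] using biprod.inr ≫= hh⟩
      · rw [Function.update_of_ne hqp]
        exact hG q (by omega)
  obtain ⟨a₁, ha₁⟩ := exists_const_bound Y
  obtain ⟨a₂, ha₂⟩ := exists_const_bound Z
  let a := min a₁ a₂
  obtain ⟨G, hG⟩ := good a
  let H : ∀ q : ℤ, Z.obj.obj (op q) ⟶ I.obj.obj (op q) := fun q =>
    if hq : a ≤ q then G q else
      haveI := ha₂ (le_of_not_ge hq) (min_le_right _ _)
      inv (tr Z.obj (le_of_not_ge hq)) ≫ G a ≫ tr I.obj (le_of_not_ge hq)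
  have H1 : ∀ q (hq : a ≤ q), H q = G q := fun q hq => dif_pos hq
  have H2 : ∀ q (hq : q ≤ a), tr Z.obj hq ≫ H q = G a ≫ tr I.obj hq := by
    intro q hq
    by_cases h : a ≤ q
    · obtain rfl : q = a := le_antisymm hq h
      rw [H1 _ le_rfl, tr_refl, tr_refl, Category.id_comp, Category.comp_id]
    · simp only [H, dif_neg h]
      haveI := ha₂ hq (min_le_right _ _)
      simp
  refine ⟨ObjectProperty.homMk (natOfSteps H fun q => ?_), ?_⟩
  · by_cases hq : a ≤ q
    · rw [H1 q hq, H1 (q + 1) (by omega)]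
      exact (hG q hq).2
    · have h1 : q + 1 ≤ a := by omega
      haveI := ha₂ h1 (min_le_right _ _)
      rw [← cancel_epi (tr Z.obj h1), ← Category.assoc, tr_comp, H2 q (by omega),
        reassoc_of% (H2 (q + 1) h1), tr_comp]
  · apply ObjectProperty.hom_ext
    apply NatTrans.ext
    funext x
    obtain ⟨q⟩ := x
    change g.hom.app (op q) ≫ H q = ψ.hom.app (op q)
    by_cases hq : a ≤ q
    · rw [H1 q hq]
      exact (hG q hq).1
    · have h1 : q ≤ a := by omega
      haveI := ha₁ h1 (min_le_left _ _)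
      rw [← cancel_epi (tr Y.obj h1), reassoc_of% (tr_nat g.hom h1), H2 q h1, tr_nat,
        reassoc_of% ((hG a le_rfl).1)]

/-- Extension along a strict monomorphism. -/
theorem desc_strictMono {X Y I : FilF A} (u : X ⟶ Y) [Mono u] (hu : IsStrict u)
    (hI : IsFilteredInjective I) (f : X ⟶ I) : ∃ g : Y ⟶ I, u ≫ g = f :=
  desc_strict u ((isStrict_iff u).mp hu) hI f fun p T y hy => by
    haveI := mono_app u p
    rw [zero_of_comp_mono _ hy, zero_comp]

end Groth.Agent.FilObj
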