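import Groth.Agent.FilObj.Embed
import Mathlib.Algebra.Homology.HomotopyCategory.KInjective
import Mathlib.Algebra.Homology.HomotopyCategory.Acyclic
import Mathlib.Algebra.Homology.ShortComplex.Exact
import Mathlib.Algebra.Homology.SingleHomology

/-!
Bounded below complexes of filtered injectives are orthogonal to filtered acyclic complexes.
-/

set_option autoImplicit false
set_option linter.unusedSectionVars false
universe v u

open CategoryTheory CategoryTheory.Limits Opposite FilD CochainComplex CochainComplex.HomComplex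
open CategoryTheory.Pretriangulated

namespace Groth.Agent.FilObj

variable {A : Type u} [Category.{v} A] [Abelian A]

/-- Extension along a differential of a filtered acyclic complex. -/
lemma exists_desc_d (K : CochainComplex (FilF A) ℤ) (hK : IsFilteredAcyclic K) {I : FilF A}
    (hI : IsFilteredInjective I) (i j k : ℤ) (hij : i + 1 = j) (hjk : j + 1 = k)
    (u : K.X j ⟶ I) (hu : K.d i j ≫ u = 0) : ∃ β : K.X k ⟶ I, K.d j k ≫ β = u := by
  let S : ShortComplex (FilF A) := K.sc' i j k
  have hS : ∀ p : ℤ, (S.map (grF A p)).Exact := fun p =>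
    (HomologicalComplex.exactAt_iff' ((grCx p).obj K) i j k (by simp; omega) (by simp; omega)).mp (hK p j)
  refine desc_strict (K.d j k) (strict_g S hS) hI u fun p T y hy => ?_
  obtain ⟨T', π, hπ, (x : T' ⟶ (K.X i).obj.obj (op p)), hx⟩ := (exact_ev S hS p).exact_up_to_refinements y hy
  replace hx : π ≫ y = x ≫ (K.d i j).hom.app (op p) := hx
  have h0 : (K.d i j).hom.app (op p) ≫ u.hom.app (op p) = 0 :=
    congrArg (fun f : K.X i ⟶ I => f.hom.app (op p)) hu
  rw [← cancel_epi π, comp_zero, ← Category.assoc, hx, Category.assoc, h0, comp_zero]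

lemma homotopyZero_aux {K L : CochainComplex (FilF A) ℤ}
    (f : K ⟶ L) (α : Cochain K L (-1)) (n m : ℤ) (hnm : n + 1 = m)
    (hK : IsFilteredAcyclic K) (hL : IsFilteredInjective (L.X m))
    (hα : (δ (-1) 0 α).EqUpTo (Cochain.ofHom f) n) :
    ∃ (h : K.X (n + 2) ⟶ L.X (n + 1)),
      (δ (-1) 0 (α + Cochain.single h (-1))).EqUpTo (Cochain.ofHom f) m := by
  subst hnm
  let u := f.f (n + 1) - α.v (n + 1) n (by lia) ≫ L.d n (n + 1) -
    K.d (n + 1) (n + 2) ≫ α.v (n + 2) (n + 1) (by lia)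
  have hu : K.d n (n + 1) ≫ u = 0 := by
    have eq := hα n n (add_zero n) (by rfl)
    simp only [δ_v (-1) 0 (neg_add_cancel 1) α n n (add_zero _) (n - 1) (n + 1)
      (by lia) (by lia), Int.negOnePow_zero, one_smul, Cochain.ofHom_v] at eq
    simp only [u, Preadditive.comp_sub, HomologicalComplex.d_comp_d_assoc, zero_comp,
      ← f.comm, ← eq, Preadditive.add_comp, Category.assoc, L.d_comp_d, comp_zero, zero_add, sub_self]
  obtain ⟨β, hβ⟩ := exists_desc_d K hK hL n (n + 1) (n + 2) rfl (by omega) u hu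
  refine ⟨β, ?_⟩
  intro p q hpq hp
  obtain rfl : p = q := by lia
  obtain hp | rfl := hp.lt_or_eq
  · rw [δ_add, Cochain.add_v, hα p p (by lia) (by lia), add_eq_left,
      δ_v (-1) 0 (neg_add_cancel 1) _ p p hpq (p - 1) (p + 1) rfl rfl,
      Cochain.single_v_eq_zero _ _ _ _ _ (by lia),
      Cochain.single_v_eq_zero _ _ _ _ _ (by lia)]
    simp
  · rw [δ_v (-1) 0 (neg_add_cancel 1) _ (n + 1) (n + 1) (by lia) n (n + 2)
      (by lia) (by lia), Cochain.add_v,
      Cochain.single_v_eq_zero _ _ _ _ _ (by lia)]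
    simp [hβ, u]

open Cochain.InductionUp in
theorem homotopy_zero (K L : CochainComplex (FilF A) ℤ) (hK : IsFilteredAcyclic K) (d : ℤ)
    [L.IsStrictlyGE d] (hL : ∀ n, IsFilteredInjective (L.X n)) (f : K ⟶ L) :
    Nonempty (Homotopy f 0) := by
  let X (n : ℕ) : Set (Cochain K L (-1)) :=
    Set.ofPred (fun α => (δ (-1) 0 α).EqUpTo (Cochain.ofHom f) (n + d - 1))
  let x₀ : X 0 := ⟨0, fun p q hpq hp ↦
    IsZero.eq_of_tgt (L.isZero_of_isStrictlyGE d _ (by lia)) _ _⟩
  let φ (n : ℕ) (α : X n) : X (n + 1) :=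
    ⟨_, (homotopyZero_aux f α.1 (n + d - 1) ((n + 1 : ℕ) + d - 1)
      (by lia) hK (hL _) α.2).choose_spec⟩
  have hφ (k : ℕ) (x : X k) : (φ k x).1.EqUpTo x.1 (d + k) := fun p q hpq hp => by
    dsimp [φ]
    rw [add_eq_left, Cochain.single_v_eq_zero _ _ _ _ _ (by lia)]
  refine ⟨(Cochain.equivHomotopy f 0).symm ⟨limitSequence φ hφ x₀, ?_⟩⟩
  rw [Cochain.ofHom_zero, add_zero]
  ext n
  let k₀ := (n - d + 1).toNat
  rw [← (sequence φ x₀ k₀).2 n n (add_zero n) (by lia),
    δ_v (-1) 0 (neg_add_cancel 1) _ n n (by lia) (n - 1) (n + 1) rfl (by lia),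
    δ_v (-1) 0 (neg_add_cancel 1) _ n n (by lia) (n - 1) (n + 1) rfl (by lia),
    limitSequence_eqUpTo φ hφ x₀ k₀ n (n - 1) (by lia) (by lia),
    limitSequence_eqUpTo φ hφ x₀ k₀ (n + 1) n (by lia) (by lia)]

local notation "qq" => HomotopyCategory.quotient (FilF A) (ComplexShape.up ℤ)

lemma quotient_eq_zero (K L : CochainComplex (FilF A) ℤ) (hK : IsFilteredAcyclic K) (d : ℤ)
    [L.IsStrictlyGE d] (hL : ∀ n, IsFilteredInjective (L.X n)) (f : (qq).obj K ⟶ (qq).obj L) :
    f = 0 := by
  obtain ⟨f, rfl⟩ := (qq).map_surjective f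
  obtain ⟨h⟩ := homotopy_zero K L hK d hL f
  rw [HomotopyCategory.eq_of_homotopy f 0 h, Functor.map_zero]

/-- The cone of a filtered quasi-isomorphism is filtered acyclic. -/
lemma cone_acyclic {K L : CochainComplex (FilF A) ℤ} (α : K ⟶ L) (hα : IsFilteredQuasiIso α) :
    IsFilteredAcyclic (mappingCone α) := by
  intro p n
  let g := (grCx p).map α
  haveI : QuasiIso g := hα p
  have h1 : HomotopyCategory.quasiIso A (ComplexShape.up ℤ)
      ((HomotopyCategory.quotient A (ComplexShape.up ℤ)).map g) :=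
    (HomotopyCategory.quotient_map_mem_quasiIso_iff g).mpr
      ((HomologicalComplex.mem_quasiIso_iff g).mpr inferInstance)
  rw [HomotopyCategory.quasiIso_eq_trW_subcategoryAcyclic] at h1
  have h2 := ((HomotopyCategory.subcategoryAcyclic A).trW_iff_of_distinguished _
    (HomotopyCategory.mappingCone_triangleh_distinguished g)).mp h1
  have h3 : ∀ n, (mappingCone g).ExactAt n :=
    (HomotopyCategory.quotient_obj_mem_subcategoryAcyclic_iff_exactAt _).mp h2
  exact HomologicalComplex.exactAt_iff_isZero_homology _ _ |>.mpr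
    (((h3 n).isZero_homology).of_iso ((HomologicalComplex.homologyFunctor A (ComplexShape.up ℤ) n).mapIso
      (mappingCone.mapHomologicalComplexIso α (grF A p))))

/-- Precomposition with a filtered quasi-isomorphism is bijective. -/
theorem precomp_bijective (I : CochainComplex (FilF A) ℤ)
    (a : ℤ) [I.IsStrictlyGE a] (hI : ∀ n, IsFilteredInjective (I.X n))
    {K L : CochainComplex (FilF A) ℤ} (α : K ⟶ L) (hα : IsFilteredQuasiIso α) :
    Function.Bijective (fun β : (qq).obj L ⟶ (qq).obj I => (qq).map α ≫ β) := by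
  have hC := cone_acyclic α hα
  have hT := HomotopyCategory.mappingCone_triangleh_distinguished α
  constructor
  · intro β β' h
    rw [← sub_eq_zero]
    obtain ⟨γ, hγ⟩ := Triangle.yoneda_exact₂ _ hT (β - β')
      (show (qq).map α ≫ (β - β') = 0 by rw [Preadditive.comp_sub, sub_eq_zero]; exact h)
    rw [hγ, quotient_eq_zero _ I hC a hI γ]
    exact comp_zero
  · intro γ
    haveI : (I⟦(1 : ℤ)⟧).IsStrictlyGE (a - 1) := I.isStrictlyGE_shift a 1 (a - 1) (by omega)
    have h0 : (mappingCone.triangleh α).mor₃ ≫ γ⟦(1 : ℤ)⟧' = 0 := by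
      have h1 := quotient_eq_zero (mappingCone α) (I⟦(1 : ℤ)⟧) hC (a - 1) (fun n => hI (n + 1))
        ((mappingCone.triangleh α).mor₃ ≫ γ⟦(1 : ℤ)⟧' ≫ (((qq).commShiftIso (1 : ℤ)).app I).inv)
      rw [← cancel_mono (((qq).commShiftIso (1 : ℤ)).app I).inv, zero_comp, Category.assoc]
      exact h1
    obtain ⟨δ', hδ⟩ := Triangle.yoneda_exact₃ _ (rot_of_distTriang _ hT) (γ⟦(1 : ℤ)⟧') h0
    obtain ⟨(δ₀ : (qq).obj L ⟶ (qq).obj I), rfl⟩ := (CategoryTheory.shiftFunctor (HomotopyCategory (FilF A) (ComplexShape.up ℤ)) (1 : ℤ)).map_surjective δ'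
    refine ⟨-δ₀, ?_⟩
    apply (CategoryTheory.shiftFunctor (HomotopyCategory (FilF A) (ComplexShape.up ℤ)) (1 : ℤ)).map_injective
    refine (Functor.map_comp _ _ _).trans ?_
    rw [Functor.map_neg]
    refine (Preadditive.comp_neg _ _).trans ?_
    exact (hδ.trans (Preadditive.neg_comp _ _)).symm

/-- Maps out of a single-degree complex into a complex vanishing in negative degrees: homotopic maps are equal. -/
lemma eq_of_homotopic_single {X : FilF A} {J : CochainComplex (FilF A) ℤ} [J.IsStrictlyGE 0]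
    (f g : (CochainComplex.singleFunctor (FilF A) 0).obj X ⟶ J)
    (h : (qq).map f = (qq).map g) : f = g := by
  let H := HomotopyCategory.homotopyOfEq _ _ h
  ext n
  have hz : ∀ i j : ℤ, j + 1 = i → H.hom i j = 0 := by
    intro i j hij
    by_cases hi : i = 0
    · exact (J.isZero_of_isStrictlyGE 0 j (by omega)).eq_of_tgt _ _
    · exact (HomologicalComplex.isZero_single_obj_X (ComplexShape.up ℤ) 0 X i hi).eq_of_src _ _
  rw [H.comm n, dNext_eq _ (show (ComplexShape.up ℤ).Rel n (n + 1) from rfl),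
    prevD_eq _ (show (ComplexShape.up ℤ).Rel (n - 1) n by simp),
    hz (n + 1) n rfl, hz n (n - 1) (by omega)]
  simp

end Groth.Agent.FilObj
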