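import Groth.Agent.FilObj.Trunc

/-!
Filtered injective resolutions of bounded below complexes of finite filtered objects.
-/

set_option autoImplicit false
set_option linter.unusedSectionVars false
universe v u

open CategoryTheory CategoryTheory.Limits Opposite FilD

namespace Groth.Agent.FilObj

variable {A : Type u} [Category.{v} A] [Abelian A]

lemma strictR_comp {X Y Z : FilF A} (g : X ⟶ Y) (u : Y ⟶ Z) [Mono u] (hg : StrictR g.hom)
    (hu : StrictR u.hom) : StrictR (g ≫ u).hom := by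
  intro p q h T x y hxy
  rw [comp_hom_app, ← Category.assoc] at hxy
  obtain ⟨T₁, π₁, hπ₁, z, hz⟩ := hu h (x ≫ g.hom.app (op p)) y hxy
  haveI := mono_app u p
  have h1 : (π₁ ≫ x) ≫ g.hom.app (op p) = z ≫ tr Y.obj h := by
    rw [← cancel_mono (u.hom.app (op p))]
    simp only [Category.assoc] at hxy ⊢
    rw [hxy, reassoc_of% hz, tr_nat]
  obtain ⟨T₂, π₂, hπ₂, x', hx'⟩ := hg h (π₁ ≫ x) z h1
  refine ⟨T₂, π₂ ≫ π₁, inferInstance, x', ?_⟩
  rw [comp_hom_app, Category.assoc, hz, reassoc_of% hx']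

variable [EnoughInjectives A]

open Classical in
/-- A chosen strict embedding; trivial on zero objects. -/
noncomputable def embObj (X : FilF A) : FilF A :=
  if IsZero X then X else (exists_embed X).choose

open Classical in
lemma embObj_spec (X : FilF A) :
    ∃ u : X ⟶ embObj X, IsFilteredInjective (embObj X) ∧ Mono u ∧ StrictR u.hom ∧
      (IsZero X → IsZero (embObj X)) := by
  unfold embObj
  by_cases h : IsZero X
  · rw [if_pos h]
    exact ⟨𝟙 X, fun p => (isZero_grF h p).injective, inferInstance,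
      strictR_of_section _ (𝟙 X) (Category.id_comp _), id⟩
  · rw [if_neg h]
    obtain ⟨u, hI, hu, hs⟩ := (exists_embed X).choose_spec
    exact ⟨u, hI, hu, (isStrict_iff u).mp hs, fun h' => absurd h' h⟩

noncomputable def emb (X : FilF A) : X ⟶ embObj X := (embObj_spec X).choose

lemma embObj_inj (X : FilF A) : IsFilteredInjective (embObj X) := (embObj_spec X).choose_spec.1
instance mono_emb (X : FilF A) : Mono (emb X) := (embObj_spec X).choose_spec.2.1
lemma strictR_emb (X : FilF A) : StrictR (emb X).hom := (embObj_spec X).choose_spec.2.2.1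
lemma isZero_embObj {X : FilF A} (h : IsZero X) : IsZero (embObj X) :=
  (embObj_spec X).choose_spec.2.2.2 h

variable (K : CochainComplex (FilF A) ℤ)

/-- State of the construction in degree `n`. -/
structure St (n : ℤ) where
  L : FilF A
  g : K.X n ⟶ L
  mono_g : Mono g
  strict_g : StrictR g.hom
  δ : ∀ m, L ⟶ K.X m
  g_δ : ∀ m, g ≫ δ m = K.d n m
  δ_d : ∀ m j, δ m ≫ K.d m j = 0

variable {K}

def St.init (n : ℤ) : St K n where
  L := K.X n
  g := 𝟙 _
  mono_g := inferInstance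
  strict_g := strictR_of_section _ (𝟙 _) (Category.id_comp _)
  δ m := K.d n m
  g_δ _ := Category.id_comp _
  δ_d m j := K.d_comp_d n m j

noncomputable abbrev St.ψ {n : ℤ} (s : St K n) (m : ℤ) : s.L ⟶ embObj s.L ⊞ K.X m :=
  biprod.lift (emb s.L) (-s.δ m)

lemma St.strictR_ψ {n : ℤ} (s : St K n) (m : ℤ) : StrictR (s.ψ m).hom := by
  intro p q h T x y hxy
  have h1 : x ≫ (emb s.L).hom.app (op p) =
      (y ≫ (biprod.fst : embObj s.L ⊞ K.X m ⟶ _).hom.app (op q)) ≫ tr (embObj s.L).obj h := by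
    rw [Category.assoc, ← tr_nat, ← Category.assoc, ← hxy, Category.assoc, ← comp_hom_app, biprod.lift_fst]
  obtain ⟨T', π, hπ, x', hx'⟩ := strictR_emb s.L h x _ h1
  refine ⟨T', π, hπ, x', ?_⟩
  haveI := mono_app (emb s.L) p
  have h2 : π ≫ x = x' ≫ tr s.L.obj h := by
    rw [← cancel_mono ((emb s.L).hom.app (op p)), Category.assoc, h1, Category.assoc x', tr_nat,
      ← Category.assoc x', ← hx']
    simp only [Category.assoc]
  rw [← cancel_mono (tr (embObj s.L ⊞ K.X m).obj h), Category.assoc, ← hxy, ← Category.assoc, h2,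
    Category.assoc, Category.assoc x', tr_nat]

/-- The pushout. -/
noncomputable abbrev St.P {n : ℤ} (s : St K n) (m : ℤ) : FilF A := cokObj (s.ψ m) (s.strictR_ψ m)

noncomputable abbrev St.inr {n : ℤ} (s : St K n) (m : ℤ) : K.X m ⟶ s.P m :=
  biprod.inr ≫ cokπ (s.ψ m) (s.strictR_ψ m)

noncomputable abbrev St.inl {n : ℤ} (s : St K n) (m : ℤ) : embObj s.L ⟶ s.P m :=
  biprod.inl ≫ cokπ (s.ψ m) (s.strictR_ψ m)

lemma St.ψ_app {n : ℤ} (s : St K n) (m : ℤ) (x : ℤᵒᵖ) :
    (s.ψ m).hom.app x ≫ (biprod.fst : embObj s.L ⊞ K.X m ⟶ _).hom.app x = (emb s.L).hom.app x ∧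
    (s.ψ m).hom.app x ≫ (biprod.snd : embObj s.L ⊞ K.X m ⟶ _).hom.app x = -(s.δ m).hom.app x := by
  constructor
  · rw [← comp_hom_app, biprod.lift_fst]
  · rw [← comp_hom_app, biprod.lift_snd]
    rfl

lemma St.mono_inr {n : ℤ} (s : St K n) (m : ℤ) : Mono (s.inr m) := by
  refine mono_of_app _ fun p => Preadditive.mono_of_cancel_zero _ fun {T} k hk => ?_
  rw [comp_hom_app, ← Category.assoc] at hk
  obtain ⟨T', π, hπ, (l : T' ⟶ s.L.obj.obj (op p)), hl⟩ :=
    (exact_cokernel_ev (s.ψ m).hom (op p)).exact_up_to_refinements _ hk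
  replace hl : π ≫ k ≫ (biprod.inr : K.X m ⟶ embObj s.L ⊞ K.X m).hom.app (op p) =
    l ≫ (s.ψ m).hom.app (op p) := hl
  have h1 := congrArg (fun z => z ≫ (biprod.fst : embObj s.L ⊞ K.X m ⟶ _).hom.app (op p)) hl
  have h2 := congrArg (fun z => z ≫ (biprod.snd : embObj s.L ⊞ K.X m ⟶ _).hom.app (op p)) hl
  simp only [Category.assoc, (s.ψ_app m (op p)).1, (s.ψ_app m (op p)).2] at h1 h2
  rw [← comp_hom_app, biprod.inr_fst, zero_hom_app, comp_zero, comp_zero] at h1
  rw [← comp_hom_app, biprod.inr_snd, id_hom_app, Category.comp_id] at h2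
  haveI := mono_app (emb s.L) p
  rw [zero_of_comp_mono _ h1.symm, zero_comp] at h2
  rw [← cancel_epi π, h2, comp_zero]

lemma St.strictR_inr {n : ℤ} (s : St K n) (m : ℤ) : StrictR (s.inr m).hom := by
  intro p q h T x y hxy
  haveI : Epi ((cokπ (s.ψ m) (s.strictR_ψ m)).hom.app (op q)) := epi_cokernel_app _ _
  obtain ⟨T₁, π₁, hπ₁, y₀, hy₀⟩ := surjective_up_to_refinements_of_epi
    ((cokπ (s.ψ m) (s.strictR_ψ m)).hom.app (op q)) y
  obtain ⟨T₂, π₂, hπ₂, (l : T₂ ⟶ s.L.obj.obj (op p)), hl⟩ :=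
    (exact_cokernel_ev (s.ψ m).hom (op p)).exact_up_to_refinements
      (π₁ ≫ x ≫ (biprod.inr : K.X m ⟶ embObj s.L ⊞ K.X m).hom.app (op p) - y₀ ≫ tr _ h)
      (show (π₁ ≫ x ≫ (biprod.inr : K.X m ⟶ embObj s.L ⊞ K.X m).hom.app (op p) - y₀ ≫ tr _ h) ≫
          (cokπ (s.ψ m) (s.strictR_ψ m)).hom.app (op p) = 0 by
        rw [Preadditive.sub_comp, Category.assoc y₀, tr_nat, ← Category.assoc y₀, ← hy₀]
        simp only [Category.assoc]
        rw [← comp_hom_app, hxy, sub_self])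
  replace hl : π₂ ≫ (π₁ ≫ x ≫ (biprod.inr : K.X m ⟶ embObj s.L ⊞ K.X m).hom.app (op p) - y₀ ≫ tr _ h)
      = l ≫ (s.ψ m).hom.app (op p) := hl
  have h1 := congrArg (fun z => z ≫ (biprod.fst : embObj s.L ⊞ K.X m ⟶ _).hom.app (op p)) hl
  have h2 := congrArg (fun z => z ≫ (biprod.snd : embObj s.L ⊞ K.X m ⟶ _).hom.app (op p)) hl
  simp only [Category.assoc, Preadditive.comp_sub, Preadditive.sub_comp, (s.ψ_app m (op p)).1,
    (s.ψ_app m (op p)).2, tr_nat] at h1 h2
  rw [← comp_hom_app, biprod.inr_fst, zero_hom_app, comp_zero, comp_zero, comp_zero, zero_sub] at h1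
  rw [← comp_hom_app, biprod.inr_snd, id_hom_app, Category.comp_id] at h2
  obtain ⟨T₃, π₃, hπ₃, l', hl'⟩ := strictR_emb s.L h l
    (-(π₂ ≫ y₀ ≫ (biprod.fst : embObj s.L ⊞ K.X m ⟶ _).hom.app (op q)))
    (by simp only [← h1, Preadditive.neg_comp, Category.assoc])
  haveI := mono_app (emb s.L) p
  have hl2 : π₃ ≫ l = l' ≫ tr s.L.obj h := by
    rw [← cancel_mono ((emb s.L).hom.app (op p)), Category.assoc, ← h1, Category.assoc l', tr_nat,
      ← Category.assoc l', ← hl']
    simp only [Preadditive.neg_comp, Preadditive.comp_neg, Category.assoc]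
  refine ⟨T₃, π₃ ≫ π₂ ≫ π₁, inferInstance,
    π₃ ≫ π₂ ≫ y₀ ≫ (biprod.snd : embObj s.L ⊞ K.X m ⟶ _).hom.app (op q) - l' ≫ (s.δ m).hom.app (op q), ?_⟩
  have h3 : (π₃ ≫ π₂ ≫ y₀ ≫ (biprod.snd : embObj s.L ⊞ K.X m ⟶ _).hom.app (op q) -
      l' ≫ (s.δ m).hom.app (op q)) ≫ tr (K.X m).obj h = π₃ ≫ π₂ ≫ π₁ ≫ x := by
    rw [sub_eq_iff_eq_add] at h2
    rw [h2, Preadditive.sub_comp, Category.assoc l', ← tr_nat, ← Category.assoc l', ← hl2]
    simp only [Preadditive.comp_add, Preadditive.comp_neg, Category.assoc]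
    abel
  rw [← cancel_mono (tr (s.P m).obj h), Category.assoc (_ - _), ← tr_nat, ← Category.assoc (_ - _), h3]
  simp only [Category.assoc]
  rw [hxy]

noncomputable def St.next {n : ℤ} (s : St K n) (m : ℤ) : St K m where
  L := s.P m
  g := s.inr m
  mono_g := s.mono_inr m
  strict_g := s.strictR_inr m
  δ j := cokDesc (s.ψ m) (s.strictR_ψ m) (biprod.snd ≫ K.d m j) (by
    simp [s.δ_d m j])
  g_δ j := by simp
  δ_d j i := by
    rw [← cancel_epi (cokπ (s.ψ m) (s.strictR_ψ m))]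
    simp

/-- Compatibility of two consecutive states. -/
structure Link {n m : ℤ} (s : St K n) (t : St K m) where
  θ : embObj s.L ⟶ t.L
  comm : emb s.L ≫ θ = s.δ m ≫ t.g
  θ_δ : ∀ j, θ ≫ t.δ j = 0
  exact : ∀ p, ∀ ⦃T : A⦄ (w : T ⟶ (grF A p).obj (embObj s.L ⊞ K.X m)),
    w ≫ (grF A p).map (biprod.desc θ t.g) = 0 →
    ∃ (T' : A) (π : T' ⟶ T) (_ : Epi π) (l : T' ⟶ (grF A p).obj s.L),
      π ≫ w = l ≫ (grF A p).map (s.ψ m)
  epi : ∀ p, Epi ((grF A p).map (biprod.desc θ t.g))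

lemma link_next {n : ℤ} (s : St K n) (m : ℤ) : Nonempty (Link s (s.next m)) := by
  have h0 : biprod.desc (s.inl m) (s.next m).g = cokπ (s.ψ m) (s.strictR_ψ m) := by
    apply biprod.hom_ext'
    · rw [biprod.inl_desc]
    · rw [biprod.inr_desc]; rfl
  refine ⟨⟨s.inl m, ?_, fun j => ?_, fun p T w hw => ?_, fun p => ?_⟩⟩
  · show emb s.L ≫ s.inl m = s.δ m ≫ s.inr m
    have h1 := cok_condition (s.ψ m) (s.strictR_ψ m)
    rw [← h0, biprod.lift_desc, Preadditive.neg_comp] at h1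
    exact eq_of_sub_eq_zero (by rw [sub_eq_add_neg]; exact h1)
  · simp [St.next]
  · exact (gr_exact_cok (s.ψ m) (s.strictR_ψ m) p).exact_up_to_refinements w
      ((congrArg (fun z => w ≫ (grF A p).map z) h0).symm.trans hw)
  · haveI : Epi ((cokπ (s.ψ m) (s.strictR_ψ m)).hom.app (op p)) := epi_cokernel_app _ _
    have h1 : Epi ((grF A p).map (cokπ (s.ψ m) (s.strictR_ψ m))) :=
      gr_epi_map (cokπ (s.ψ m) (s.strictR_ψ m)).hom p
    rw [← h0] at h1
    exact h1

lemma link_init (n m : ℤ) (h : IsZero (K.X n)) : Nonempty (Link (St.init (K := K) n) (St.init m)) := by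
  have hE : IsZero (embObj (St.init (K := K) n).L) := isZero_embObj h
  have hd : K.d n m = 0 := h.eq_of_src _ _
  have hiso : biprod.desc (0 : embObj (St.init (K := K) n).L ⟶ K.X m) (𝟙 (K.X m)) ≫ biprod.inr =
      𝟙 (embObj (St.init (K := K) n).L ⊞ K.X m) := by
    apply biprod.hom_ext'
    · exact hE.eq_of_src _ _
    · simp
  refine ⟨⟨0, h.eq_of_src _ _, fun j => zero_comp, fun p T w hw => ?_, fun p => ?_⟩⟩
  · refine ⟨T, 𝟙 _, inferInstance, 0, ?_⟩
    have h1 : w = 0 := by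
      rw [← Category.comp_id w, ← CategoryTheory.Functor.map_id, ← hiso, Functor.map_comp, ← Category.assoc]
      exact (congrArg (fun z => z ≫ (grF A p).map (biprod.inr : K.X m ⟶ embObj (St.init (K := K) n).L ⊞ K.X m)) hw).trans zero_comp
    rw [h1, comp_zero, zero_comp]
  · exact @IsSplitEpi.epi _ _ _ _ _ (IsSplitEpi.mk'
      { section_ := (grF A p).map (biprod.inr : K.X m ⟶ embObj (St.init (K := K) n).L ⊞ K.X m)
        id := by
          exact ((grF A p).map_comp _ _).symm.trans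
            ((congrArg (grF A p).map (biprod.inr_desc _ _)).trans ((grF A p).map_id _)) })

variable (K)

noncomputable def st (a : ℤ) (n : ℤ) : St K n :=
  if h : n ≤ a then St.init n else (st a (n - 1)).next n
termination_by (n - a).toNat
decreasing_by omega

lemma st_link (a : ℤ) [K.IsStrictlyGE a] (n : ℤ) : Nonempty (Link (st K a n) (st K a (n + 1))) := by
  by_cases h : n + 1 ≤ a
  · rw [st.eq_def K a n, dif_pos (show n ≤ a by omega), st.eq_def K a (n + 1), dif_pos h]
    exact link_init n (n + 1) (K.isZero_of_isStrictlyGE a n (by omega))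
  · rw [st.eq_def K a (n + 1), dif_neg h, show n + 1 - 1 = n by omega]
    exact link_next _ _

lemma exists_resolution (a : ℤ) [K.IsStrictlyGE a] :
    ∃ (I : CochainComplex (FilF A) ℤ) (φ : K ⟶ I), I.IsStrictlyGE a ∧
      (∀ n, IsFilteredInjective (I.X n)) ∧
      IsFilteredQuasiIso φ ∧ ∀ n, Mono (φ.f n) ∧ IsStrict (φ.f n) := by
  let S : ∀ n, St K n := st K a
  let lk : ∀ n, Link (S n) (S (n + 1)) := fun n => (st_link K a n).some
  let I : CochainComplex (FilF A) ℤ := CochainComplex.of (fun n => embObj (S n).L)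
    (fun n => (lk n).θ ≫ emb (S (n + 1)).L)
    (fun n => by
      rw [Category.assoc, reassoc_of% ((lk (n + 1)).comm), reassoc_of% ((lk n).θ_δ (n + 1 + 1)), zero_comp])
  let φ : K ⟶ I :=
    { f := fun n => (S n).g ≫ emb (S n).L
      comm' := fun i j hij => by
        obtain rfl : i + 1 = j := hij
        simp only [I, CochainComplex.of_d, Category.assoc, reassoc_of% ((lk i).comm),
          reassoc_of% ((S i).g_δ (i + 1))] }
  refine ⟨I, φ, ?_, fun n => embObj_inj _, fun p => ⟨fun n => ?_⟩, fun n => ?_⟩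
  · rw [CochainComplex.isStrictlyGE_iff]
    intro n hn
    show IsZero (embObj (st K a n).L)
    rw [st.eq_def K a n, dif_pos (show n ≤ a by omega)]
    exact isZero_embObj (K.isZero_of_isStrictlyGE a n hn)
  · obtain ⟨i, rfl⟩ : ∃ i, n = i + 1 + 1 := ⟨n - 2, by omega⟩
    rw [quasiIsoAt_iff_isIso_homologyMap]
    let G := grF A p
    have hu : ∀ j, Mono (G.map (emb (S j).L)) := fun j => gr_mono_of_strict _ (strictR_emb _) p
    have hd : ∀ j, ((grCx p).obj I).d j (j + 1) = G.map (lk j).θ ≫ G.map (emb (S (j + 1)).L) := fun j => by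
      show G.map (I.d j (j + 1)) = _
      rw [← Functor.map_comp]
      congr 1
      exact CochainComplex.of_d (fun n => embObj (S n).L) (fun n => (lk n).θ ≫ emb (S (n + 1)).L) j
    have hf : ∀ j, ((grCx p).map φ).f j = G.map (S j).g ≫ G.map (emb (S j).L) :=
      fun j => G.map_comp _ _
    have hψ : ∀ j, (G.map ((S j).ψ (j + 1))) ≫ G.map (biprod.fst : embObj (S j).L ⊞ K.X (j + 1) ⟶ _) = G.map (emb (S j).L) ∧
        (G.map ((S j).ψ (j + 1))) ≫ G.map (biprod.snd : embObj (S j).L ⊞ K.X (j + 1) ⟶ _) = -G.map ((S j).δ (j + 1)) :=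
      fun j => ⟨(G.map_comp _ _).symm.trans (congrArg G.map (biprod.lift_fst _ _)),
        (G.map_comp _ _).symm.trans ((congrArg G.map (biprod.lift_snd _ _)).trans G.map_neg)⟩
    have hsplit : ∀ j ⦃T : A⦄ (l : T ⟶ G.obj (S (j + 1)).L),
        ∃ (T' : A) (π : T' ⟶ T) (_ : Epi π) (e : T' ⟶ G.obj (embObj (S j).L)) (k : T' ⟶ G.obj (K.X (j + 1))),
          π ≫ l = e ≫ G.map (lk j).θ + k ≫ G.map (S (j + 1)).g := by
      intro j T l
      haveI := (lk j).epi p
      obtain ⟨T', π, hπ, w, hw⟩ := surjective_up_to_refinements_of_epi (G.map (biprod.desc (lk j).θ (S (j + 1)).g)) l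
      refine ⟨T', π, hπ, w ≫ G.map biprod.fst, w ≫ G.map biprod.snd, ?_⟩
      rw [hw, biprod.desc_eq, Functor.map_add, Functor.map_comp, Functor.map_comp, Preadditive.comp_add]
      simp only [Category.assoc]
    have hzero : ∀ j ⦃T : A⦄ (y : T ⟶ G.obj (embObj (S j).L)) (x : T ⟶ G.obj (K.X (j + 1))),
        y ≫ G.map (lk j).θ + x ≫ G.map (S (j + 1)).g = 0 →
        ∃ (T' : A) (π : T' ⟶ T) (_ : Epi π) (l : T' ⟶ G.obj (S j).L),
          π ≫ y = l ≫ G.map (emb (S j).L) ∧ π ≫ x = -(l ≫ G.map ((S j).δ (j + 1))) := by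
      intro j T y x hyx
      obtain ⟨T', π, hπ, l, hl⟩ := (lk j).exact p
        (y ≫ G.map biprod.inl + x ≫ G.map biprod.inr)
        (by rw [Preadditive.add_comp, Category.assoc, Category.assoc, ← Functor.map_comp, ← Functor.map_comp,
              biprod.inl_desc, biprod.inr_desc]; exact hyx)
      refine ⟨T', π, hπ, l, ?_, ?_⟩
      · have h1 := congrArg (fun z => z ≫ G.map biprod.fst) hl
        simp only [Preadditive.add_comp, Preadditive.comp_add, Category.assoc, ← Functor.map_comp,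
          biprod.inl_fst, biprod.inr_fst, CategoryTheory.Functor.map_id, Functor.map_zero, comp_zero, add_zero,
          Category.comp_id] at h1
        exact h1.trans (congrArg (fun z => l ≫ z) (hψ j).1)
      · have h1 := congrArg (fun z => z ≫ G.map biprod.snd) hl
        simp only [Preadditive.add_comp, Preadditive.comp_add, Category.assoc, ← Functor.map_comp,
          biprod.inl_snd, biprod.inr_snd, CategoryTheory.Functor.map_id, Functor.map_zero, comp_zero, zero_add,
          Category.comp_id] at h1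
        exact h1.trans ((congrArg (fun z => l ≫ z) (hψ j).2).trans (Preadditive.comp_neg _ _))
    have hgδ : ∀ j, G.map (S (j + 1)).g ≫ G.map ((S (j + 1)).δ (j + 1 + 1)) = G.map (K.d (j + 1) (j + 1 + 1)) :=
      fun j => by rw [← Functor.map_comp, (S (j + 1)).g_δ]
    have hθδ : ∀ j, G.map (lk j).θ ≫ G.map ((S (j + 1)).δ (j + 1 + 1)) = 0 :=
      fun j => by rw [← Functor.map_comp, (lk j).θ_δ, Functor.map_zero]
    haveI : Mono (HomologicalComplex.homologyMap ((grCx p).map φ) (i + 1 + 1)) := by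
      rw [HomologicalComplex.mono_homologyMap_iff_up_to_refinements _ (i + 1) (i + 1 + 1) (i + 1 + 1 + 1)
        (by simp) (by simp)]
      intro T (x : T ⟶ G.obj (K.X (i + 1 + 1))) hx (y : T ⟶ G.obj (embObj (S (i + 1)).L)) hxy
      replace hxy : x ≫ G.map (S (i + 1 + 1)).g ≫ G.map (emb (S (i + 1 + 1)).L) =
          y ≫ G.map (lk (i + 1)).θ ≫ G.map (emb (S (i + 1 + 1)).L) := by
        rw [← hf, ← hd]; exact hxy
      haveI := hu (i + 1 + 1)
      rw [← Category.assoc, ← Category.assoc, cancel_mono] at hxy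
      obtain ⟨T₁, π₁, hπ₁, l, -, hl⟩ := hzero (i + 1) (-y) x (by
        rw [Preadditive.neg_comp, ← hxy, neg_add_cancel])
      obtain ⟨T₂, π₂, hπ₂, e, k, hk⟩ := hsplit i l
      refine ⟨T₂, π₂ ≫ π₁, inferInstance, -k, ?_⟩
      show (π₂ ≫ π₁) ≫ x = (-k) ≫ G.map (K.d (i + 1) (i + 1 + 1))
      rw [Category.assoc, hl, Preadditive.comp_neg, ← Category.assoc π₂, hk, Preadditive.add_comp,
        Category.assoc, Category.assoc, hθδ, hgδ, comp_zero, zero_add, Preadditive.neg_comp]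
    haveI : Epi (HomologicalComplex.homologyMap ((grCx p).map φ) (i + 1 + 1)) := by
      rw [HomologicalComplex.epi_homologyMap_iff_up_to_refinements _ (i + 1) (i + 1 + 1) (i + 1 + 1 + 1)
        (by simp) (by simp)]
      intro T (y : T ⟶ G.obj (embObj (S (i + 1 + 1)).L)) hy
      replace hy : (y ≫ G.map (lk (i + 1 + 1)).θ) ≫ G.map (emb (S (i + 1 + 1 + 1)).L) = 0 := by
        rw [Category.assoc, ← hd]; exact hy
      haveI := hu (i + 1 + 1 + 1)
      obtain ⟨T₁, π₁, hπ₁, l, hl, hl0⟩ := hzero (i + 1 + 1) y 0 (by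
        rw [zero_of_comp_mono _ hy, zero_comp, add_zero])
      obtain ⟨T₂, π₂, hπ₂, e, k, hk⟩ := hsplit (i + 1) l
      have hk0 : k ≫ G.map (K.d (i + 1 + 1) (i + 1 + 1 + 1)) = 0 := by
        have h1 := congrArg (fun z => z ≫ G.map ((S (i + 1 + 1)).δ (i + 1 + 1 + 1))) hk
        simp only [Preadditive.add_comp, Category.assoc, hθδ, hgδ, comp_zero, zero_add] at h1
        rw [← h1]
        rw [comp_zero, eq_comm, neg_eq_zero] at hl0
        rw [hl0, comp_zero]
      refine ⟨T₂, π₂ ≫ π₁, inferInstance, k, hk0, e, ?_⟩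
      rw [hf, hd]
      show (π₂ ≫ π₁) ≫ y = k ≫ (G.map (S (i + 1 + 1)).g ≫ G.map (emb (S (i + 1 + 1)).L))
        + e ≫ (G.map (lk (i + 1)).θ ≫ G.map (emb (S (i + 1 + 1)).L))
      rw [Category.assoc, hl, ← Category.assoc π₂, hk, Preadditive.add_comp, Category.assoc, Category.assoc]
      exact add_comm _ _
    exact isIso_of_mono_of_epi _
  · haveI := (S n).mono_g
    exact ⟨mono_comp _ _, (isStrict_iff _).mpr (strictR_comp _ _ (S n).strict_g (strictR_emb _))⟩

end Groth.Agent.FilObj
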