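import Groth.Agent.FilObj.Coker
import Mathlib.Algebra.Homology.Refinements
import Mathlib.Algebra.Homology.QuasiIso
import Mathlib.Algebra.Homology.Embedding.CochainComplex

/-!
Truncations of filtered complexes with vanishing graded cohomology.
-/

set_option autoImplicit false
set_option linter.unusedSectionVars false
universe v u

open CategoryTheory CategoryTheory.Limits Opposite FilD

namespace Groth.Agent.FilObj

variable {A : Type u} [Category.{v} A] [Abelian A]

lemma comp_hom_app {X Y Z : FilF A} (f : X ⟶ Y) (g : Y ⟶ Z) (x : ℤᵒᵖ) :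
    (f ≫ g).hom.app x = f.hom.app x ≫ g.hom.app x := rfl

lemma id_hom_app (X : FilF A) (x : ℤᵒᵖ) : (𝟙 X : X ⟶ X).hom.app x = 𝟙 _ := rfl

lemma zero_hom_app (X Y : FilF A) (x : ℤᵒᵖ) : (0 : X ⟶ Y).hom.app x = 0 := rfl

lemma strictR_zero {X Y : FilF A} : StrictR (0 : X ⟶ Y).hom := by
  intro p q h T x y hxy
  refine ⟨T, 𝟙 _, inferInstance, 0, ?_⟩
  rw [zero_hom_app, comp_zero] at hxy
  rw [zero_comp, Category.id_comp]
  exact zero_of_comp_mono (tr Y.obj h) hxy.symm

lemma strictR_of_section {X Y : FilF A} (f : X ⟶ Y) (s : Y ⟶ X) (hs : s ≫ f = 𝟙 Y) : StrictR f.hom := by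
  intro p q h T x y _
  refine ⟨T, 𝟙 _, inferInstance, y ≫ s.hom.app (op q), ?_⟩
  rw [Category.assoc, ← comp_hom_app, hs, id_hom_app, Category.id_comp, Category.comp_id]

lemma strictR_of_retraction {X Y : FilF A} (f : X ⟶ Y) (r : Y ⟶ X) (hr : f ≫ r = 𝟙 X) : StrictR f.hom := by
  intro p q h T x y hxy
  refine ⟨T, 𝟙 _, inferInstance, y ≫ r.hom.app (op q), ?_⟩
  have h1 := congrArg (fun z => z ≫ r.hom.app (op p)) hxy
  simp only [Category.assoc] at h1
  rw [← comp_hom_app, hr, id_hom_app, Category.comp_id, tr_nat] at h1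
  rw [← cancel_mono (tr Y.obj h), Category.id_comp, ← hxy, h1]
  simp only [Category.assoc, tr_nat]

lemma cok_condition' {X Y : FilF A} (ψ : X ⟶ Y) (hψ : StrictR ψ.hom) {f : X ⟶ Y} (h : ψ = f) :
    f ≫ cokπ ψ hψ = 0 := by
  subst h; exact cok_condition ψ hψ

lemma ker_condition' {X Y : FilF A} (ψ : X ⟶ Y) {f : X ⟶ Y} (h : ψ = f) : kerι ψ ≫ f = 0 := by
  subst h; exact ker_condition ψ

lemma isZero_grF {X : FilF A} (h : IsZero X) (p : ℤ) : IsZero ((grF A p).obj X) :=
  Functor.map_isZero _ h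

/-- Truncation from below. -/
theorem truncGE (K : CochainComplex (FilF A) ℤ) (a : ℤ)
    (hK : ∀ (p n : ℤ), n < a → IsZero (((grCx p).obj K).homology n)) :
    ∃ (L : CochainComplex (FilF A) ℤ) (φ : K ⟶ L), L.IsStrictlyGE a ∧ IsFilteredQuasiIso φ := by
  have hex : ∀ i j k : ℤ, i + 1 = j → j + 1 = k → j < a → ∀ p, ((K.sc' i j k).map (grF A p)).Exact := by
    intro i j k hij hjk hj p
    exact (HomologicalComplex.exactAt_iff' ((grCx p).obj K) i j k (by simp; omega) (by simp; omega)).mp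
      ((HomologicalComplex.exactAt_iff_isZero_homology _ _).mpr (hK p j hj))
  let ψ : ∀ n : ℤ, K.X n ⊞ K.X (n - 1) ⟶ K.X n := fun n =>
    if n < a then biprod.fst else if n = a then biprod.snd ≫ K.d (n - 1) n else 0
  have ψlt : ∀ n, n < a → ψ n = biprod.fst := fun n h => if_pos h
  have ψgt : ∀ n, a < n → ψ n = 0 := fun n h => by
    simp only [ψ, if_neg (show ¬ n < a by omega), if_neg (show ¬ n = a by omega)]
  have ψeq : ψ a = biprod.snd ≫ K.d (a - 1) a := by simp [ψ]
  have hψ : ∀ n, StrictR (ψ n).hom := by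
    intro n
    rcases lt_trichotomy n a with h | rfl | h
    · rw [ψlt n h]; exact strictR_of_section _ biprod.inl biprod.inl_fst
    · rw [ψeq]
      intro p q hpq T x y hxy
      rw [comp_hom_app, ← Category.assoc] at hxy
      obtain ⟨T', π, hπ, (x'' : T' ⟶ (K.X (n - 1)).obj.obj (op q)), hx''⟩ := strict_g (K.sc' (n - 2) (n - 1) n)
        (hex (n - 2) (n - 1) n (by omega) (by omega) (by omega)) hpq
        (x ≫ (biprod.snd : K.X n ⊞ K.X (n - 1) ⟶ _).hom.app (op p)) y hxy
      replace hx'' : π ≫ y = x'' ≫ (K.d (n - 1) n).hom.app (op q) := hx''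
      refine ⟨T', π, hπ, x'' ≫ (biprod.inr : K.X (n - 1) ⟶ K.X n ⊞ K.X (n - 1)).hom.app (op q), ?_⟩
      rw [hx'', Category.assoc, ← comp_hom_app, biprod.inr_snd_assoc]
    · rw [ψgt n h]; exact strictR_zero
  have hψd : ∀ n : ℤ, ψ n ≫ K.d n (n + 1) ≫ cokπ (ψ (n + 1)) (hψ (n + 1)) = 0 := by
    intro n
    rcases lt_trichotomy n a with h | rfl | h
    · rcases lt_or_eq_of_le (show n + 1 ≤ a by omega) with h' | h'
      · have h0 : cokπ (ψ (n + 1)) (hψ (n + 1)) = 0 := by
          rw [← cancel_epi (biprod.fst : K.X (n + 1) ⊞ K.X (n + 1 - 1) ⟶ _), comp_zero]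
          exact cok_condition' _ (hψ (n + 1)) (ψlt _ h')
        rw [h0, comp_zero, comp_zero]
      · subst h'
        have h1 : K.d (n + 1 - 1) (n + 1) ≫ cokπ (ψ (n + 1)) (hψ (n + 1)) = 0 := by
          rw [← cancel_epi (biprod.snd : K.X (n + 1) ⊞ K.X (n + 1 - 1) ⟶ _), comp_zero]
          rw [← Category.assoc]
          exact cok_condition' _ (hψ (n + 1)) ψeq
        rw [ψlt n h, ← HomologicalComplex.XIsoOfEq_hom_comp_d K (show n = n + 1 - 1 by omega) (n + 1),
          Category.assoc, h1, comp_zero, comp_zero]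
    · rw [ψeq]; simp
    · rw [ψgt n h, zero_comp]
  let L : CochainComplex (FilF A) ℤ := CochainComplex.of (fun n => cokObj (ψ n) (hψ n))
    (fun n => cokDesc (ψ n) (hψ n) (K.d n (n + 1) ≫ cokπ (ψ (n + 1)) (hψ (n + 1))) (hψd n))
    (fun n => by
      rw [← cancel_epi (cokπ (ψ n) (hψ n)), comp_zero, cokπ_desc_assoc, Category.assoc, cokπ_desc,
        HomologicalComplex.d_comp_d_assoc, zero_comp])
  let φ : K ⟶ L :=
    { f := fun n => cokπ (ψ n) (hψ n)
      comm' := fun i j hij => by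
        obtain rfl : i + 1 = j := hij
        simp [L] }
  have hzero : ∀ n, n < a → IsZero (L.X n) := by
    intro n hn
    show IsZero (cokObj (ψ n) (hψ n))
    rw [IsZero.iff_id_eq_zero, ← cancel_epi (cokπ (ψ n) (hψ n)), Category.comp_id, comp_zero,
      ← cancel_epi (biprod.fst : K.X n ⊞ K.X (n - 1) ⟶ _), comp_zero]
    exact cok_condition' _ (hψ n) (ψlt n hn)
  refine ⟨L, φ, ?_, fun p => ⟨fun n => ?_⟩⟩
  · rw [CochainComplex.isStrictlyGE_iff]
    exact hzero
  rw [quasiIsoAt_iff_isIso_homologyMap]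
  have hepi : ∀ m, Epi (((grCx p).map φ).f m) := fun m => by
    haveI : Epi ((cokπ (ψ m) (hψ m)).hom.app (op p)) := epi_cokernel_app _ _
    exact gr_epi_map (cokπ (ψ m) (hψ m)).hom p
  haveI : Mono (HomologicalComplex.homologyMap ((grCx p).map φ) n) := by
    rw [HomologicalComplex.mono_homologyMap_iff_up_to_refinements _ (n - 1) n (n + 1) (by simp) (by simp)]
    intro T x hx y hxy
    by_cases hn : n < a
    · exact ((HomologicalComplex.exactAt_iff' _ (n - 1) n (n + 1) (by simp) (by simp)).mp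
        ((HomologicalComplex.exactAt_iff_isZero_homology _ _).mpr (hK p n hn))).exact_up_to_refinements x hx
    haveI := hepi (n - 1)
    obtain ⟨T₁, π₁, hπ₁, k, hk⟩ := surjective_up_to_refinements_of_epi (((grCx p).map φ).f (n - 1)) y
    obtain ⟨T₂, π₂, hπ₂, (z : T₂ ⟶ (grF A p).obj (K.X n ⊞ K.X (n - 1))), hz⟩ :=
      (gr_exact_cok (ψ n) (hψ n) p).exact_up_to_refinements
        (π₁ ≫ x - k ≫ ((grCx p).obj K).d (n - 1) n)
        (show (π₁ ≫ x - k ≫ ((grCx p).obj K).d (n - 1) n) ≫ ((grCx p).map φ).f n = 0 by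
          rw [Preadditive.sub_comp, Category.assoc, Category.assoc, hxy,
            ← ((grCx p).map φ).comm, ← Category.assoc π₁, hk, Category.assoc, sub_self])
    replace hz : π₂ ≫ (π₁ ≫ x - k ≫ ((grCx p).obj K).d (n - 1) n) = z ≫ (grF A p).map (ψ n) := hz
    rcases lt_or_eq_of_le (not_lt.mp hn) with h | rfl
    · rw [ψgt n h, Functor.map_zero, comp_zero, Preadditive.comp_sub] at hz
      replace hz := sub_eq_zero.mp hz
      exact ⟨T₂, π₂ ≫ π₁, inferInstance, π₂ ≫ k, by rw [Category.assoc, hz, Category.assoc]⟩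
    · rw [ψeq, Functor.map_comp, ← Category.assoc, Preadditive.comp_sub, sub_eq_iff_eq_add] at hz
      refine ⟨T₂, π₂ ≫ π₁, inferInstance,
        (z ≫ (grF A p).map (biprod.snd : K.X a ⊞ K.X (a - 1) ⟶ _) : T₂ ⟶ ((grCx p).obj K).X (a - 1)) + π₂ ≫ k, ?_⟩
      rw [Category.assoc, hz, Preadditive.add_comp, Category.assoc π₂]
      rfl
  haveI : Epi (HomologicalComplex.homologyMap ((grCx p).map φ) n) := by
    rw [HomologicalComplex.epi_homologyMap_iff_up_to_refinements _ (n - 1) n (n + 1) (by simp) (by simp)]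
    intro T y hy
    by_cases hn : n < a
    · exact ⟨T, 𝟙 _, inferInstance, 0, zero_comp, 0, (isZero_grF (hzero n hn) p).eq_of_tgt _ _⟩
    haveI := hepi n
    obtain ⟨T₁, π₁, hπ₁, x, hx⟩ := surjective_up_to_refinements_of_epi (((grCx p).map φ).f n) y
    obtain ⟨T₂, π₂, hπ₂, (z : T₂ ⟶ (grF A p).obj (K.X (n + 1) ⊞ K.X (n + 1 - 1))), hz⟩ :=
      (gr_exact_cok (ψ (n + 1)) (hψ (n + 1)) p).exact_up_to_refinements
        (x ≫ ((grCx p).obj K).d n (n + 1))
        (show (x ≫ ((grCx p).obj K).d n (n + 1)) ≫ ((grCx p).map φ).f (n + 1) = 0 by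
          rw [Category.assoc, ← ((grCx p).map φ).comm, ← Category.assoc, ← hx, Category.assoc, hy, comp_zero])
    replace hz : π₂ ≫ x ≫ ((grCx p).obj K).d n (n + 1) = z ≫ (grF A p).map (ψ (n + 1)) := hz
    rw [ψgt (n + 1) (by omega), Functor.map_zero, comp_zero] at hz
    exact ⟨T₂, π₂ ≫ π₁, inferInstance, π₂ ≫ x, (Category.assoc _ _ _).trans hz, 0,
      by rw [zero_comp, add_zero, Category.assoc, Category.assoc, hx]⟩
  exact isIso_of_mono_of_epi _

/-- Truncation from above. -/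
theorem truncLE (K : CochainComplex (FilF A) ℤ) (b : ℤ)
    (hK : ∀ (p n : ℤ), b < n → IsZero (((grCx p).obj K).homology n)) :
    ∃ (M : CochainComplex (FilF A) ℤ) (φ : M ⟶ K), M.IsStrictlyLE b ∧ IsFilteredQuasiIso φ := by
  let ψ : ∀ n : ℤ, K.X n ⟶ K.X n ⊞ K.X (n + 1) := fun n =>
    if b < n then biprod.inl else if n = b then K.d n (n + 1) ≫ biprod.inr else 0
  have ψgt : ∀ n, b < n → ψ n = biprod.inl := fun n h => if_pos h
  have ψlt : ∀ n, n < b → ψ n = 0 := fun n h => by
    simp only [ψ, if_neg (show ¬ b < n by omega), if_neg (show ¬ n = b by omega)]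
  have ψeq : ψ b = K.d b (b + 1) ≫ biprod.inr := by simp [ψ]
  have hψ : ∀ n, StrictR (ψ n).hom := by
    intro n
    rcases lt_trichotomy n b with h | rfl | h
    · rw [ψlt n h]; exact strictR_zero
    · rw [ψeq]
      intro p q hpq T x y hxy
      rw [comp_hom_app, ← Category.assoc] at hxy
      have h1 := congrArg (fun z => z ≫ (biprod.snd : K.X n ⊞ K.X (n + 1) ⟶ _).hom.app (op p)) hxy
      simp only [Category.assoc] at h1
      rw [← comp_hom_app, biprod.inr_snd, id_hom_app, Category.comp_id, tr_nat, ← Category.assoc y] at h1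
      obtain ⟨T', π, hπ, x', hx'⟩ := strict_f (K.sc' n (n + 1) (n + 2)) (fun p =>
        (HomologicalComplex.exactAt_iff' ((grCx p).obj K) n (n + 1) (n + 2) (by simp) (by simp; omega)).mp
          ((HomologicalComplex.exactAt_iff_isZero_homology _ _).mpr (hK p (n + 1) (by omega)))) hpq x
        (y ≫ (biprod.snd : K.X n ⊞ K.X (n + 1) ⟶ _).hom.app (op q)) h1
      replace hx' : π ≫ y ≫ (biprod.snd : K.X n ⊞ K.X (n + 1) ⟶ _).hom.app (op q)
          = x' ≫ (K.d n (n + 1)).hom.app (op q) := hx'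
      refine ⟨T', π, hπ, x', ?_⟩
      have h0 : y ≫ (biprod.fst : K.X n ⊞ K.X (n + 1) ⟶ _).hom.app (op q) = 0 := by
        rw [← cancel_mono (tr (K.X n).obj hpq), zero_comp, Category.assoc, ← tr_nat, ← Category.assoc, ← hxy,
          Category.assoc, ← comp_hom_app, biprod.inr_fst, zero_hom_app, comp_zero]
      have h2 : y = y ≫ ((biprod.fst : K.X n ⊞ K.X (n + 1) ⟶ _) ≫ biprod.inl
          + (biprod.snd : K.X n ⊞ K.X (n + 1) ⟶ _) ≫ biprod.inr).hom.app (op q) := by
        rw [biprod.total, id_hom_app, Category.comp_id]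
      have h3 : ((biprod.fst : K.X n ⊞ K.X (n + 1) ⟶ _) ≫ biprod.inl
          + (biprod.snd : K.X n ⊞ K.X (n + 1) ⟶ _) ≫ biprod.inr).hom.app (op q)
          = (biprod.fst : K.X n ⊞ K.X (n + 1) ⟶ _).hom.app (op q) ≫ (biprod.inl : K.X n ⟶ K.X n ⊞ K.X (n + 1)).hom.app (op q)
          + (biprod.snd : K.X n ⊞ K.X (n + 1) ⟶ _).hom.app (op q) ≫ (biprod.inr : K.X (n + 1) ⟶ K.X n ⊞ K.X (n + 1)).hom.app (op q) := rfl
      rw [h3, Preadditive.comp_add, reassoc_of% h0, zero_comp, zero_add] at h2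
      rw [h2, comp_hom_app, reassoc_of% hx']
      all_goals rfl
    · rw [ψgt n h]; exact strictR_of_retraction _ biprod.fst biprod.inl_fst
  have hψd : ∀ n : ℤ, (kerι (ψ n) ≫ K.d n (n + 1)) ≫ ψ (n + 1) = 0 := by
    intro n
    rcases lt_trichotomy (n + 1) b with h | h | h
    · rw [ψlt _ h, comp_zero]
    · subst h; rw [ψeq]; simp
    · rcases lt_or_eq_of_le (show b ≤ n by omega) with h' | h'
      · have h0 : kerι (ψ n) = 0 := by
          rw [← cancel_mono (biprod.inl : K.X n ⟶ K.X n ⊞ K.X (n + 1)), zero_comp]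
          exact ker_condition' _ (ψgt n h')
        rw [h0, zero_comp, zero_comp]
      · subst h'
        have h1 : kerι (ψ b) ≫ K.d b (b + 1) = 0 := by
          rw [← cancel_mono (biprod.inr : K.X (b + 1) ⟶ K.X b ⊞ K.X (b + 1)), zero_comp, Category.assoc]
          exact ker_condition' _ ψeq
        rw [h1, zero_comp]
  let M : CochainComplex (FilF A) ℤ := CochainComplex.of (fun n => kerObj (ψ n))
    (fun n => kerLift (ψ (n + 1)) (kerι (ψ n) ≫ K.d n (n + 1)) (hψd n))
    (fun n => by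
      rw [← cancel_mono (kerι (ψ (n + 1 + 1))), zero_comp, Category.assoc, kerLift_ι, kerLift_ι_assoc,
        Category.assoc, HomologicalComplex.d_comp_d, comp_zero])
  let φ : M ⟶ K :=
    { f := fun n => kerι (ψ n)
      comm' := fun i j hij => by
        obtain rfl : i + 1 = j := hij
        simp [M] }
  have hzero : ∀ n, b < n → IsZero (M.X n) := by
    intro n hn
    show IsZero (kerObj (ψ n))
    rw [IsZero.iff_id_eq_zero, ← cancel_mono (kerι (ψ n)), Category.id_comp, zero_comp,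
      ← cancel_mono (biprod.inl : K.X n ⟶ K.X n ⊞ K.X (n + 1)), zero_comp]
    exact ker_condition' _ (ψgt n hn)
  refine ⟨M, φ, ?_, fun p => ⟨fun n => ?_⟩⟩
  · rw [CochainComplex.isStrictlyLE_iff]
    exact hzero
  rw [quasiIsoAt_iff_isIso_homologyMap]
  have hmono : ∀ m, Mono (((grCx p).map φ).f m) := fun m =>
    gr_mono_of_strict (kerι (ψ m)) (strictR_kerι (ψ m)) p
  haveI : Mono (HomologicalComplex.homologyMap ((grCx p).map φ) n) := by
    rw [HomologicalComplex.mono_homologyMap_iff_up_to_refinements _ (n - 1) n (n + 1) (by simp) (by simp)]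
    intro T x hx y hxy
    by_cases hn : b < n
    · exact ⟨T, 𝟙 _, inferInstance, 0, (isZero_grF (hzero n hn) p).eq_of_tgt _ _⟩
    obtain ⟨T₁, π₁, hπ₁, (m : T₁ ⟶ ((grCx p).obj M).X (n - 1)), hm⟩ :=
      (gr_exact_ker (ψ (n - 1)) (hψ (n - 1)) p).exact_up_to_refinements y
        (show y ≫ (grF A p).map (ψ (n - 1)) = 0 by rw [ψlt (n - 1) (by omega), Functor.map_zero]; exact comp_zero)
    replace hm : π₁ ≫ y = m ≫ ((grCx p).map φ).f (n - 1) := hm
    refine ⟨T₁, π₁, hπ₁, m, ?_⟩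
    haveI := hmono n
    rw [← cancel_mono (((grCx p).map φ).f n), Category.assoc, hxy, ← Category.assoc, hm, Category.assoc,
      ((grCx p).map φ).comm, Category.assoc]
  haveI : Epi (HomologicalComplex.homologyMap ((grCx p).map φ) n) := by
    rw [HomologicalComplex.epi_homologyMap_iff_up_to_refinements _ (n - 1) n (n + 1) (by simp) (by simp)]
    intro T y hy
    by_cases hn : b < n
    · obtain ⟨T', π, hπ, y₁, hy₁⟩ := ((HomologicalComplex.exactAt_iff' _ (n - 1) n (n + 1) (by simp) (by simp)).mp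
        ((HomologicalComplex.exactAt_iff_isZero_homology _ _).mpr (hK p n hn))).exact_up_to_refinements y hy
      exact ⟨T', π, hπ, 0, by simp, y₁, by rw [zero_comp, zero_add]; exact hy₁⟩
    have h0 : y ≫ (grF A p).map (ψ n) = 0 := by
      rcases lt_or_eq_of_le (not_lt.mp hn) with h | rfl
      · rw [ψlt n h, Functor.map_zero]; exact comp_zero
      · rw [ψeq, Functor.map_comp]
        exact (Category.assoc _ _ _).symm.trans
          ((congrArg (fun z => z ≫ (grF A p).map (biprod.inr : K.X (n + 1) ⟶ K.X n ⊞ K.X (n + 1))) hy).trans zero_comp)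
    obtain ⟨T₁, π₁, hπ₁, (m : T₁ ⟶ ((grCx p).obj M).X n), hm⟩ :=
      (gr_exact_ker (ψ n) (hψ n) p).exact_up_to_refinements y h0
    replace hm : π₁ ≫ y = m ≫ ((grCx p).map φ).f n := hm
    haveI := hmono (n + 1)
    refine ⟨T₁, π₁, hπ₁, m, ?_, 0, by rw [zero_comp, add_zero, hm]⟩
    rw [← cancel_mono (((grCx p).map φ).f (n + 1)), Category.assoc, ← ((grCx p).map φ).comm,
      ← Category.assoc, ← hm, Category.assoc, hy, comp_zero, zero_comp]
  exact isIso_of_mono_of_epi _

end Groth.Agent.FilObj
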